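import Cfsg.Agent.H821.K547.Defs

/-!
# S4547, QO-EXT-PO: outer 2-automorphisms and subgroups of odd index of the automorphism group

* `exists_conj_mem` : `H ≤ Aut S` of odd index and `τ` of 2-power order modulo inner automorphisms: some
  `conj s * (g τ g⁻¹)` is in `H`;
* `relIndex_dvd_of_normal` : `|K : H ∩ K|` divides `|G : H|` for `K` normal.
-/

set_option autoImplicit false

namespace Cfsg.Agent.H829.K547

open Cfsg.Agent.H821.K547 Subgroup

universe u v

theorem relIndex_dvd_of_normal {G : Type u} [Group G] [Finite G] (H K : Subgroup G) [K.Normal] :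
    H.relIndex K ∣ H.index := by
  have h1 : K.relIndex (H ⊔ K) = K.relIndex H := Subgroup.relIndex_sup_right H K
  have h2 : H.relIndex (H ⊔ K) ∣ H.index := by
    rw [← Subgroup.relIndex_mul_index (le_sup_left : H ≤ H ⊔ K)]
    exact Dvd.intro _ rfl
  have e1 : Nat.card ↥(H ⊓ K) * H.relIndex K = Nat.card ↥K := by
    have := Subgroup.card_mul_index (H.subgroupOf K)
    rw [← this]
    congr 1
    rw [← Subgroup.inf_subgroupOf_right]
    exact (Nat.card_congr (Subgroup.subgroupOfEquivOfLe inf_le_right).toEquiv).symm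
  have e2 : Nat.card ↥(H ⊓ K) * K.relIndex H = Nat.card ↥H := by
    have := Subgroup.card_mul_index (K.subgroupOf H)
    rw [← this]
    congr 1
    rw [← Subgroup.inf_subgroupOf_left]
    exact (Nat.card_congr (Subgroup.subgroupOfEquivOfLe inf_le_left).toEquiv).symm
  have e3 : Nat.card ↥K * K.relIndex (H ⊔ K) = Nat.card ↥(H ⊔ K) := by
    have := Subgroup.card_mul_index (K.subgroupOf (H ⊔ K))
    rw [← this]
    congr 1
    exact (Nat.card_congr (Subgroup.subgroupOfEquivOfLe le_sup_right).toEquiv).symm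
  have e4 : Nat.card ↥H * H.relIndex (H ⊔ K) = Nat.card ↥(H ⊔ K) := by
    have := Subgroup.card_mul_index (H.subgroupOf (H ⊔ K))
    rw [← this]
    congr 1
    exact (Nat.card_congr (Subgroup.subgroupOfEquivOfLe le_sup_left).toEquiv).symm
  have hH : 0 < Nat.card ↥H := Nat.card_pos
  have hI : 0 < Nat.card ↥(H ⊓ K) := Nat.card_pos
  have : H.relIndex K = H.relIndex (H ⊔ K) := by
    have h3 : (Nat.card ↥(H ⊓ K) * Nat.card ↥H) * H.relIndex K =
        (Nat.card ↥(H ⊓ K) * Nat.card ↥H) * H.relIndex (H ⊔ K) := by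
      calc (Nat.card ↥(H ⊓ K) * Nat.card ↥H) * H.relIndex K
          = Nat.card ↥H * (Nat.card ↥(H ⊓ K) * H.relIndex K) := by ring
        _ = Nat.card ↥H * Nat.card ↥K := by rw [e1]
        _ = (Nat.card ↥(H ⊓ K) * K.relIndex H) * Nat.card ↥K := by rw [e2]
        _ = Nat.card ↥(H ⊓ K) * (Nat.card ↥K * K.relIndex (H ⊔ K)) := by rw [h1]; ring
        _ = Nat.card ↥(H ⊓ K) * (Nat.card ↥H * H.relIndex (H ⊔ K)) := by rw [e3, e4]
        _ = _ := by ring
    exact Nat.eq_of_mul_eq_mul_left (Nat.mul_pos hI hH) h3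
  rw [this]
  exact h2

variable {S : Type u} [Group S]

theorem conj_range_normal : (MulAut.conj : S →* MulAut S).range.Normal := by
  refine ⟨?_⟩
  rintro _ ⟨s, rfl⟩ g
  refine ⟨g s, ?_⟩
  ext x
  change g s * x * (g s)⁻¹ = g (s * (g⁻¹ x) * s⁻¹)
  rw [map_mul, map_mul, map_inv]
  congr 2
  exact (g.apply_symm_apply x).symm

/-- `M = {s | conj s ∈ H}` has odd index if `H` has -/
theorem odd_index_comap [Finite S] {H : Subgroup (MulAut S)} (hH : Odd H.index) :
    Odd (H.comap (MulAut.conj : S →* MulAut S)).index := by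
  have := conj_range_normal (S := S)
  have : Finite (MulAut S) := Finite.of_injective (fun e : MulAut S => (e : S → S)) DFunLike.coe_injective
  rw [Subgroup.index_comap]
  exact Odd.of_dvd_nat hH (relIndex_dvd_of_normal _ _)

theorem exists_conj_mem [Finite S] {τ : MulAut S} (hτ : TwoPow τ) {H : Subgroup (MulAut S)} (hH : Odd H.index) :
    ∃ (g : MulAut S) (s : S), MulAut.conj s * (g * τ * g⁻¹) ∈ H := by
  have hfin : Finite (MulAut S) := Finite.of_injective (fun e : MulAut S => (e : S → S)) DFunLike.coe_injective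
  obtain ⟨k, s0, hk⟩ := hτ
  -- order of `τ` : `2 ^ a * b`
  have hn : orderOf τ ≠ 0 := (orderOf_pos τ).ne'
  obtain ⟨a, b, hb, hab⟩ := Nat.exists_eq_two_pow_mul_odd hn
  -- exponent
  have hcop : Nat.Coprime (2 ^ k) b := (Nat.coprime_two_left.2 hb).pow_left k
  obtain ⟨e, he1, he2⟩ := Nat.chineseRemainder hcop 1 0
  obtain ⟨j, hj⟩ : ∃ j : ℤ, (e : ℤ) = 1 + 2 ^ k * j := by
    have : (e : ℤ) ≡ 1 [ZMOD (2 ^ k : ℕ)] := by exact_mod_cast (Int.natCast_modEq_iff.2 he1)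
    obtain ⟨j, hj⟩ := this.symm.dvd
    exact ⟨j, by push_cast at hj; linarith⟩
  have hconj : τ ^ 2 ^ k = MulAut.conj s0 := by
    ext x
    rw [hk x]
    rfl
  set τ' := τ ^ e with hτ'
  have e1 : τ' = MulAut.conj (s0 ^ j) * τ := by
    have : τ' = τ ^ (1 + 2 ^ k * j : ℤ) := by rw [← hj, zpow_natCast]
    rw [this, add_comm, zpow_add, zpow_one, zpow_mul]
    congr 1
    have h2 : (τ : MulAut S) ^ (2 ^ k : ℤ) = τ ^ 2 ^ k := by exact_mod_cast zpow_natCast τ (2 ^ k)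
    rw [h2, hconj, map_zpow]
  have h2 : ∃ c, orderOf τ' = 2 ^ c := by
    have hdvd : orderOf τ' ∣ 2 ^ a := by
      rw [orderOf_dvd_iff_pow_eq_one, hτ', ← pow_mul]
      obtain ⟨t, ht⟩ := (Nat.modEq_zero_iff_dvd.1 he2)
      rw [ht]
      have : b * t * 2 ^ a = orderOf τ * t := by rw [hab]; ring
      rw [this, pow_mul, pow_orderOf_eq_one, one_pow]
    obtain ⟨c, -, hc⟩ := (Nat.dvd_prime_pow Nat.prime_two).1 hdvd
    exact ⟨c, hc⟩
  obtain ⟨c, hc⟩ := h2
  have hP : IsPGroup 2 ↥(zpowers τ') := IsPGroup.of_card (n := c) (by rw [Nat.card_zpowers, hc])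
  have hne : ¬ 2 ∣ Nat.card (MulAut S ⧸ H) := by
    change ¬ 2 ∣ H.index
    exact hH.not_two_dvd_nat
  obtain ⟨x, hx⟩ := hP.nonempty_fixed_point_of_prime_not_dvd_card (MulAut S ⧸ H) hne
  obtain ⟨g, rfl⟩ := QuotientGroup.mk_surjective x
  have h3 : (⟨τ', mem_zpowers τ'⟩ : ↥(zpowers τ')) • (QuotientGroup.mk g : MulAut S ⧸ H) = QuotientGroup.mk g :=
    hx ⟨τ', mem_zpowers τ'⟩
  have h4 : (QuotientGroup.mk (τ' * g) : MulAut S ⧸ H) = QuotientGroup.mk g := h3
  rw [eq_comm, QuotientGroup.eq] at h4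
  refine ⟨g⁻¹, g⁻¹ (s0 ^ j), ?_⟩
  have h5 : MulAut.conj (g⁻¹ (s0 ^ j)) = g⁻¹ * MulAut.conj (s0 ^ j) * g := by
    ext x
    change g⁻¹ (s0 ^ j) * x * (g⁻¹ (s0 ^ j))⁻¹ = g⁻¹ (s0 ^ j * (g x) * (s0 ^ j)⁻¹)
    rw [map_mul, map_mul, map_inv]
    congr 2
    exact (g.symm_apply_apply x).symm
  have h6 : MulAut.conj (g⁻¹ (s0 ^ j)) * (g⁻¹ * τ * g⁻¹⁻¹) = g⁻¹ * (τ' * g) := by
    rw [h5, e1]
    group
  rw [h6]
  exact h4

end Cfsg.Agent.H829.K547
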