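import Cfsg.Agent.H951.K547.Gen
import Cfsg.Agent.H716.K547.RkTwo

/-!
# S4547, QO-EXT3: `gen_inner` for a covering group `G → S` (helper829)

`d3_of_cover` : `N ≤ G` of odd index, `f : N →* V` trivial on the kernel, compatible with `τ`.
-/

set_option autoImplicit false

namespace Cfsg.Agent.H829.K547

open Cfsg.Agent.H821.K547 Subgroup

universe u v w

theorem not_rk_two_of_cyclic {P : Type u} [Group P] [IsCyclic P] (h : Rk 2 P) : False := by
  obtain ⟨f, hf⟩ := h
  have h1 : IsCyclic (Multiplicative (Fin 2 → ZMod 2)) := isCyclic_of_surjective f hf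
  have h2 : ∀ x : Multiplicative (Fin 2 → ZMod 2), x * x = 1 := by decide
  have h3 := h1.exponent_eq_card
  have h4 : Monoid.exponent (Multiplicative (Fin 2 → ZMod 2)) ∣ 2 :=
    Monoid.exponent_dvd_of_forall_pow_eq_one fun x => by rw [pow_two]; exact h2 x
  rw [h3] at h4
  have h5 : Nat.card (Multiplicative (Fin 2 → ZMod 2)) = 4 := by
    rw [Nat.card_eq_fintype_card]; rfl
  rw [h5] at h4
  omega

theorem d3_of_cover {G : Type u} {S : Type v} {V : Type w} [Group G] [Group S] [Group V] [Finite S]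
    [IsSimpleGroup S] (pr : G →* S) (hpr : Function.Surjective pr) (N : Subgroup G) (hN : Odd N.index)
    (f : N →* V) (hker : ∀ x : N, pr x = 1 → f x = 1) (τ : MulAut S) (h2 : TwoPow τ) (hni : ¬ IsInn τ)
    (s : S) (α : G → G) (hα : ∀ x, (MulAut.conj s * τ) (pr x) = pr (α x)) (hαN : ∀ x ∈ N, α x ∈ N)
    (v : V) (hv : v ∈ f.range) (hfα : ∀ x : N, f ⟨α x, hαN x x.2⟩ = v * f x * v⁻¹)
    (hY : ∀ Q : Sylow 2 f.range, Rk 2 Q) : D3 (AutExt τ) := by
  let prN : N →* N.map pr := pr.subgroupMap N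
  have hprN : Function.Surjective prN := pr.subgroupMap_surjective N
  have hk : prN.ker ≤ f.rangeRestrict.ker := by
    intro x hx
    rw [MonoidHom.mem_ker] at hx ⊢
    apply Subtype.ext
    exact hker x (congrArg Subtype.val hx)
  let Fm : N.map pr →* f.range := prN.liftOfSurjective hprN ⟨f.rangeRestrict, hk⟩
  have hFm : ∀ x : N, Fm (prN x) = f.rangeRestrict x := fun x =>
    MonoidHom.liftOfRightInverse_comp_apply _ _ (Function.rightInverse_surjInv hprN) ⟨f.rangeRestrict, hk⟩ x
  have hFs : Function.Surjective Fm := by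
    intro y
    obtain ⟨x, rfl⟩ := f.rangeRestrict_surjective y
    exact ⟨prN x, hFm x⟩
  have hna : ¬ ∀ a b : S, a * b = b * a := by
    intro hab
    let _ : CommGroup S := { (inferInstance : Group S) with mul_comm := hab }
    have h1 : IsCyclic S := IsSimpleGroup.isCyclic
    have h3 : IsCyclic (N.map pr) := Subgroup.isCyclic (N.map pr)
    have h4 : IsCyclic f.range := isCyclic_of_surjective Fm hFs
    obtain ⟨Q⟩ : Nonempty (Sylow 2 f.range) := inferInstance
    have h5 : IsCyclic Q := Subgroup.isCyclic (Q : Subgroup f.range)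
    exact not_rk_two_of_cyclic (hY Q)
  refine Cfsg.Agent.H951.K547.gen_inner (Cfsg.Agent.H951.K547.center_of_simple hna)
    (Cfsg.Agent.H951.K547.commutator_of_simple hna) τ h2 hni s (N.map pr) ?_ ?_ Fm hFs ⟨v, hv⟩ ?_ hY
  · intro hd
    exact hN.not_two_dvd_nat (hd.trans (index_map_dvd N hpr))
  · rintro _ ⟨x, hx, rfl⟩
    rw [hα]
    exact ⟨α x, hαN x hx, rfl⟩
  · intro m m' hmm
    obtain ⟨x, rfl⟩ := hprN m
    have h6 : m' = prN ⟨α x, hαN x x.2⟩ := by
      apply Subtype.ext
      rw [hmm]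
      exact hα x
    rw [h6, hFm, hFm]
    apply Subtype.ext
    exact hfα x

/-- the version with an elementary abelian image -/
theorem d3_of_cover_sq {G : Type u} {S : Type v} {V : Type w} [Group G] [Group S] [Group V] [Finite S]
    [IsSimpleGroup S] (pr : G →* S) (hpr : Function.Surjective pr) (N : Subgroup G) (hN : Odd N.index)
    (f : N →* V) (hker : ∀ x : N, pr x = 1 → f x = 1) (τ : MulAut S) (h2 : TwoPow τ) (hni : ¬ IsInn τ)
    (s : S) (α : G → G) (hα : ∀ x, (MulAut.conj s * τ) (pr x) = pr (α x)) (hαN : ∀ x ∈ N, α x ∈ N)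
    (hfα : ∀ x : N, f ⟨α x, hαN x x.2⟩ = f x) (hsq : ∀ x : N, f x * f x = 1)
    (hcomm : ∀ x y : N, f x * f y = f y * f x) (a b : N) (ha : f a ≠ 1) (hb : f b ≠ 1) (hab : f a ≠ f b)
    (hfin : Finite V) : D3 (AutExt τ) := by
  refine d3_of_cover pr hpr N hN f hker τ h2 hni s α hα hαN 1 (one_mem _) (fun x => ?_) ?_
  · rw [hfα, one_mul, inv_one, mul_one]
  · exact Cfsg.Agent.H716.K547.rk_two_sylow (a := f.rangeRestrict a) (b := f.rangeRestrict b)
      (Subtype.ext (hsq a)) (Subtype.ext (hsq b)) (Subtype.ext (hcomm a b))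
      (fun h => ha (congrArg Subtype.val h)) (fun h => hb (congrArg Subtype.val h))
      (fun h => hab (congrArg Subtype.val h))

end Cfsg.Agent.H829.K547
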