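import Cfsg.Agent.H829.K547.Frame

/-!
# Semisimilitudes act on the group of the frame

`det_semi` (determinant under semilinear conjugation), `det_sq`, `conj_mem_TO`, `phO_conj`, `dw_conj`, `dw_sq`.
-/

set_option autoImplicit false

namespace Cfsg.Agent.H829.K547

open QuadraticMap Cfsg.Agent.LieClassical.OrthCore Cfsg.Agent.LieClassical.OrthTrans
  Cfsg.Agent.LieClassical.OrthSimple Cfsg.Agent.ClassicalGeometry.OrthSemi
  Cfsg.Agent.ClassicalGeometry.OrthSemiCount

section Det

variable {F κ : Type*} [Field F] [Fintype κ] [DecidableEq κ]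

theorem det_semi (σ : F ≃+* F) (t : (κ → F) → (κ → F)) (hadd : ∀ u v, t (u + v) = t u + t v)
    (hsmul : ∀ (a : F) v, t (a • v) = σ a • t v) (hinj : ∀ v, t v = 0 → v = 0)
    (L L' : (κ → F) →ₗ[F] (κ → F)) (h : ∀ v, L' (t v) = t (L v)) :
    LinearMap.det L' = σ (LinearMap.det L) := by
  classical
  set T : Matrix κ κ F := Matrix.of fun i j => t (Pi.single j 1) i with hT
  have ht0 : t 0 = 0 := by
    have := hadd 0 0
    rw [add_zero] at this
    exact left_eq_add.1 this
  have hsum : ∀ (s : Finset κ) (f : κ → κ → F), t (∑ j ∈ s, f j) = ∑ j ∈ s, t (f j) := by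
    intro s f
    induction s using Finset.induction_on with
    | empty => simpa using ht0
    | insert a s ha ih => rw [Finset.sum_insert ha, hadd, ih, Finset.sum_insert ha]
  have htv : ∀ v, t v = T.mulVec (fun j => σ (v j)) := by
    intro v
    have e : v = ∑ j, v j • (Pi.single j 1 : κ → F) := by
      funext i
      simp [Finset.sum_apply, Pi.single_apply]
    conv_lhs => rw [e]
    rw [hsum]
    funext i
    rw [Finset.sum_apply, Matrix.mulVec, dotProduct]
    refine Finset.sum_congr rfl fun j _ => ?_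
    rw [hsmul, Pi.smul_apply, smul_eq_mul, hT, Matrix.of_apply, mul_comm]
  have hdet : T.det ≠ 0 := by
    intro h0
    obtain ⟨x, hx0, hx⟩ := Matrix.exists_mulVec_eq_zero_iff.2 h0
    apply hx0
    have e : x = fun j => σ (σ.symm (x j)) := by funext j; simp
    have h1 : t (fun j => σ.symm (x j)) = 0 := by rw [htv]; rw [← e]; exact hx
    have h2 := hinj _ h1
    funext j
    have h3 := congrFun h2 j
    simpa using h3
  have hmul : LinearMap.toMatrix' L' * T = T * (LinearMap.toMatrix' L).map σ := by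
    ext i j
    have h1 : (LinearMap.toMatrix' L' * T) i j = L' (t (Pi.single j 1)) i := by
      rw [← LinearMap.toMatrix'_mulVec L', Matrix.mul_apply, Matrix.mulVec, dotProduct]
      rfl
    have h2 : (T * (LinearMap.toMatrix' L).map σ) i j = t (L (Pi.single j 1)) i := by
      rw [htv, Matrix.mul_apply, Matrix.mulVec, dotProduct]
      refine Finset.sum_congr rfl fun k _ => ?_
      rw [Matrix.map_apply, LinearMap.toMatrix'_apply]
    rw [h1, h2, h]
  have h3 := congrArg Matrix.det hmul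
  rw [Matrix.det_mul, Matrix.det_mul, LinearMap.det_toMatrix'] at h3
  have h4 : ((LinearMap.toMatrix' L).map σ).det = σ (LinearMap.det L) := by
    rw [← LinearMap.det_toMatrix' L]
    exact (RingHom.map_det (σ : F →+* F) _).symm
  rw [h4, mul_comm] at h3
  exact mul_left_cancel₀ hdet h3

theorem det_sq {W : Type*} [AddCommGroup W] [Module F W] [FiniteDimensional F W] {w : QuadraticForm F W}
    (hw : Nondeg w) (L : W →ₗ[F] W) (hL : ∀ y, w (L y) = w y) : LinearMap.det L ^ 2 = 1 := by
  let b := Module.finBasis F W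
  have h1 : (polarBilin w).compl₁₂ L L = polarBilin w := by
    ext x y
    change polar w (L x) (L y) = polar w x y
    simp only [polar, ← map_add, hL]
  have h3 : (LinearMap.BilinForm.toMatrix b (polarBilin w)).det ≠ 0 := by
    rw [← LinearMap.BilinForm.nondegenerate_iff_det_ne_zero]
    constructor
    · exact hw
    · intro y hy
      exact hw y fun x => by rw [polar_comm]; exact hy x
  have h4 : LinearMap.BilinForm.toMatrix b ((polarBilin w).compl₁₂ L L) =
      (LinearMap.toMatrix b b L).transpose * LinearMap.BilinForm.toMatrix b (polarBilin w) *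
        LinearMap.toMatrix b b L :=
    LinearMap.BilinForm.toMatrix_comp b b _ _ _
  rw [h1] at h4
  have h5 := congrArg Matrix.det h4
  rw [Matrix.det_mul, Matrix.det_mul, Matrix.det_transpose, LinearMap.det_toMatrix] at h5
  apply mul_right_cancel₀ h3
  rw [one_mul]
  nth_rewrite 2 [h5]
  ring

end Det

variable {F U W : Type*} [Field F] [AddCommGroup U] [Module F U] [AddCommGroup W] [Module F W] {m : ℕ}
  {p : QuadraticForm F U} {w : QuadraticForm F W}

theorem dw_sq [FiniteDimensional F W] (hp : Nondeg p) (hw : Nondeg w) (g : ↥(TO p w m)) : dw hp g ^ 2 = 1 :=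
  det_sq hw _ (Lw_form (w := w) hp g.2)

theorem dw_eq [FiniteDimensional F W] (hp : Nondeg p) (hw : Nondeg w) (g : ↥(TO p w m)) :
    dw hp g = 1 ∨ dw hp g = -1 := by
  have h := dw_sq hp hw g
  have : (dw hp g - 1) * (dw hp g + 1) = 0 := by linear_combination h
  rcases mul_eq_zero.1 this with h1 | h1
  · left; linear_combination h1
  · right; linear_combination h1

theorem tp_conjLin {V : Type*} [AddCommGroup V] [Module F V] {Q : QuadraticForm F V} (t : Gam Q) (g : V ≃ₗ[F] V) :
    tp V (conjLin t g) = t.1 * tp V g * t.1⁻¹ := rfl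

theorem conj_mem_TO {t : Gam (QM p w m)} (ht : t.1 ∈ Fr U W m)
    {g : ((Fin m → U) × W) ≃ₗ[F] ((Fin m → U) × W)} (hg : g ∈ TO p w m) : conjLin t g ∈ TO p w m := by
  refine ⟨?_, ?_⟩
  · intro v
    obtain ⟨σ, c, hM⟩ := t.2
    obtain ⟨v, rfl⟩ := t.1.surjective v
    rw [conjLin_apply', hM.form, hM.form, hg.1 v]
  · change tp _ (conjLin t g) ∈ Fr U W m
    rw [tp_conjLin]
    exact (Fr U W m).mul_mem ((Fr U W m).mul_mem ht hg.2) ((Fr U W m).inv_mem ht)

theorem phO_conj [Nontrivial U] {t : Gam (QM p w m)} (ht : t.1 ∈ Fr U W m)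
    {g : ((Fin m → U) × W) ≃ₗ[F] ((Fin m → U) × W)} (hg : g ∈ TO p w m) :
    phO p w m ⟨conjLin t g, conj_mem_TO ht hg⟩ =
      ph U W m ⟨t.1, ht⟩ * phO p w m ⟨g, hg⟩ * (ph U W m ⟨t.1, ht⟩)⁻¹ := by
  rw [← map_inv]
  change ph U W m ⟨tp _ (conjLin t g), _⟩ = ph U W m ⟨t.1, ht⟩ * ph U W m ⟨tp _ g, hg.2⟩ * ph U W m ⟨t.1, ht⟩⁻¹
  rw [← map_mul, ← map_mul]
  congr 1

theorem dw_conj {κ : Type*} [Fintype κ] [DecidableEq κ] {w : QuadraticForm F (κ → F)} (hp : Nondeg p)
    (hw : Nondeg w) {t : Gam (QM p w m)} (ht : t.1 ∈ Fr U (κ → F) m)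
    {g : ((Fin m → U) × (κ → F)) ≃ₗ[F] ((Fin m → U) × (κ → F))} (hg : g ∈ TO p w m) :
    dw hp ⟨conjLin t g, conj_mem_TO ht hg⟩ = dw hp ⟨g, hg⟩ := by
  obtain ⟨σ, c, hM⟩ := t.2
  have ht0 : ∀ y : κ → F, t.1 (0, y) = (0, (t.1 (0, y)).2) := fun y =>
    Prod.ext (fst_eq_zero_of_mem (w := w) hp hM ht rfl) rfl
  have key : dw hp ⟨conjLin t g, conj_mem_TO ht hg⟩ = σ (dw hp ⟨g, hg⟩) := by
    rw [dw_apply, dw_apply]
    refine det_semi σ (fun y => (t.1 (0, y)).2) ?_ ?_ ?_ _ _ ?_
    · intro u v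
      have : ((0, u + v) : (Fin m → U) × (κ → F)) = (0, u) + (0, v) := by simp
      rw [this, hM.add]
      rfl
    · intro a v
      have : ((0, a • v) : (Fin m → U) × (κ → F)) = a • (0, v) := by simp
      rw [this, hM.smul]
      rfl
    · intro v hv
      have h1 : t.1 (0, v) = 0 := by
        rw [ht0 v, hv]
        rfl
      have h2 : t.1 (0, v) = t.1 0 := by rw [h1, hM.map_zero]
      have h3 := t.1.injective h2
      exact congrArg Prod.snd h3
    · intro v
      rw [Lw_apply]
      change (conjLin t g (0, (t.1 (0, v)).2)).2 = (t.1 (0, Lw g v)).2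
      rw [← ht0 v, conjLin_apply', Lw_spec (w := w) hp hg]
  rw [key]
  rcases dw_eq hp hw ⟨g, hg⟩ with h | h <;> rw [h] <;> simp

end Cfsg.Agent.H829.K547
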