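import Cfsg.Agent.H829.K547.Iso
import Cfsg.Agent.H637.OrthOdd
import Cfsg.Agent.ClassicalGeometry.OrthSemiForms

/-!
# The model forms: `m` planes `x² + y²` and a rest
-/

set_option autoImplicit false

namespace Cfsg.Agent.H829.K547

open QuadraticMap Cfsg.Agent.LieClassical.OrthCore Cfsg.Agent.LieClassical.OrthTrans
  Cfsg.Agent.LieClassical.OrthSimple Cfsg.Agent.ClassicalGeometry.OrthSemi
  Cfsg.Agent.ClassicalGeometry.OrthSemiCount Cfsg.Agent.ClassicalGeometry.OrthAut1 Cfsg.Agent.H821.K547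
  Cfsg.Agent.H122.OrthIso Cfsg.Agent.H637

universe u

section Nd

variable {F : Type*} [Field F] {U W : Type*} [AddCommGroup U] [Module F U] [AddCommGroup W] [Module F W] {m : ℕ}
  {p : QuadraticForm F U} {w : QuadraticForm F W}

theorem nondeg_QM (hp : Nondeg p) (hw : Nondeg w) : Nondeg (QM p w m) := by
  intro v hv
  refine Prod.ext ?_ ?_
  · exact (fst_eq_zero_iff (w := w) hp).2 fun i u _ => hv u
  · refine hw _ fun y => ?_
    have := hv (0, y)
    rw [polar_QM] at this
    simpa using this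

theorem nondeg_DQ {ι : Type} [Fintype ι] [DecidableEq ι] (h2 : (2 : F) ≠ 0) (c : ι → F) (hc : ∀ i, c i ≠ 0) :
    Nondeg (DQ c) := nondeg_of_nondegenerate (DQ_nondegenerate h2 c hc)

theorem nondegenerate_of_nondeg {ι : Type} [Fintype ι] [DecidableEq ι] {Q : QuadraticForm F (ι → F)}
    (h : Nondeg Q) : (polarBilin Q).Nondegenerate := by
  apply LieClassical.OmegaReindex.nondegenerate_of_left
  exact h

end Nd

section Model

variable {F : Type u} [Field F] {κ : Type} [Fintype κ] [DecidableEq κ]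

/-- the plane -/
abbrev pl (F : Type u) [Field F] : QuadraticForm F (Fin 2 → F) := DQ (fun _ => (1 : F))

/-- coordinates of the model -/
def coord (F : Type u) [Field F] (m : ℕ) (κ : Type) :
    ((Fin m → (Fin 2 → F)) × (κ → F)) ≃ₗ[F] ((Fin m × Fin 2) ⊕ κ → F) where
  toFun v := Sum.elim (fun i => v.1 i.1 i.2) v.2
  invFun x := (fun i j => x (Sum.inl (i, j)), fun k => x (Sum.inr k))
  map_add' u v := by
    funext i
    rcases i with i | i <;> rfl
  map_smul' a v := by
    funext i
    rcases i with i | i <;> rfl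
  left_inv v := rfl
  right_inv x := by
    funext i
    rcases i with i | i <;> rfl

theorem isoQ_coord (m : ℕ) (d : κ → F) :
    IsoQ (QM (pl F) (DQ d) m) (DQ (Sum.elim (fun _ : Fin m × Fin 2 => (1 : F)) d)) := by
  refine ⟨coord F m κ, fun v => ?_⟩
  rw [DQ_apply, QM_apply, Fintype.sum_sum_type, Fintype.sum_prod_type, DQ_apply]
  congr 1

theorem exists_plane [Finite F] (h2 : (2 : F) ≠ 0) (c : F) : ∃ u, pl F u = c := by
  obtain ⟨x, y, h⟩ := Cfsg.Agent.ClassicalGeometry.Universal.exists_sq_add_sq h2 (one_ne_zero (α := F))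
    (one_ne_zero (α := F)) c
  refine ⟨![x, y], ?_⟩
  rw [DQ_apply, Fin.sum_univ_two]
  simp only [Matrix.cons_val_zero, Matrix.cons_val_one]
  linear_combination h

/-- field automorphisms preserve square classes -/
theorem exists_sq_twist [Finite F] (σ : F ≃+* F) {d : F} (hd : d ≠ 0) : ∃ s : F, s ≠ 0 ∧ σ d = d * s ^ 2 := by
  have h : IsSquare (d * σ d) := by
    by_cases h1 : IsSquare d
    · exact h1.mul (h1.map σ)
    · refine Cfsg.Agent.ClassicalGeometry.SymmNormalForm.isSquare_div_of_not h1 ?_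
      rintro ⟨t, ht⟩
      apply h1
      refine ⟨σ.symm t, ?_⟩
      apply σ.injective
      rw [map_mul, RingEquiv.apply_symm_apply, ht]
  obtain ⟨t, ht⟩ := h
  have hσ : σ d ≠ 0 := by simpa using hd
  have ht0 : t ≠ 0 := by
    rintro rfl
    rw [mul_zero] at ht
    exact mul_ne_zero hd hσ ht
  refine ⟨t / d, div_ne_zero ht0 hd, ?_⟩
  field_simp
  linear_combination ht

/-- semisimilitudes of binary forms -/
theorem exists_isSS_two [Finite F] (h2 : (2 : F) ≠ 0) (d : Fin 2 → F) (h1 : d 0 = 1) (hd : d 1 ≠ 0)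
    (σ : F ≃+* F) (c : F) (hc : c ≠ 0) : ∃ M, IsSS (DQ d) σ c M := by
  obtain ⟨s, hs0, hs⟩ := exists_sq_twist σ hd
  obtain ⟨a, b, hab⟩ := Cfsg.Agent.ClassicalGeometry.Universal.exists_sq_add_sq h2 (one_ne_zero (α := F)) hd c
  have hnd : Nondeg (DQ d) := nondeg_DQ h2 d fun i => by
    fin_cases i
    · change d 0 ≠ 0
      rw [h1]; exact one_ne_zero
    · exact hd
  refine Cfsg.Agent.ClassicalGeometry.OrthSemiForms.exists_isSS hnd hc
    (fun v => ![a * σ (v 0) - d 1 * b * (s * σ (v 1)), b * σ (v 0) + a * (s * σ (v 1))]) ?_ ?_ ?_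
  · intro u v
    funext i
    fin_cases i
    · change a * σ (u 0 + v 0) - d 1 * b * (s * σ (u 1 + v 1)) =
        (a * σ (u 0) - d 1 * b * (s * σ (u 1))) + (a * σ (v 0) - d 1 * b * (s * σ (v 1)))
      rw [map_add, map_add]; ring
    · change b * σ (u 0 + v 0) + a * (s * σ (u 1 + v 1)) =
        (b * σ (u 0) + a * (s * σ (u 1))) + (b * σ (v 0) + a * (s * σ (v 1)))
      rw [map_add, map_add]; ring
  · intro t v
    funext i
    fin_cases i
    · change a * σ (t * v 0) - d 1 * b * (s * σ (t * v 1)) = σ t * (a * σ (v 0) - d 1 * b * (s * σ (v 1)))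
      rw [map_mul, map_mul]; ring
    · change b * σ (t * v 0) + a * (s * σ (t * v 1)) = σ t * (b * σ (v 0) + a * (s * σ (v 1)))
      rw [map_mul, map_mul]; ring
  · intro v
    rw [DQ_apply, DQ_apply, Fin.sum_univ_two, Fin.sum_univ_two, h1]
    simp only [Matrix.cons_val_zero, Matrix.cons_val_one, map_add, map_mul, map_one]
    rw [hs]
    linear_combination (σ (v 0) ^ 2 + d 1 * s ^ 2 * σ (v 1) ^ 2) * hab

/-- semisimilitudes of the zero-dimensional form -/
theorem exists_isSS_zero (d : Fin 0 → F) (σ : F ≃+* F) (c : F) (hc : c ≠ 0) : ∃ M, IsSS (DQ d) σ c M := by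
  refine ⟨1, hc, fun u v => Subsingleton.elim _ _, fun a v => Subsingleton.elim _ _, fun v => ?_⟩
  have h0 : ∀ v : Fin 0 → F, DQ d v = 0 := fun v => by
    rw [DQ_apply]
    simp
  rw [h0, h0, map_zero, mul_zero]

/-- semisimilitudes with multiplier one of a one-dimensional form -/
theorem exists_isSS_one [Finite F] (h2 : (2 : F) ≠ 0) (d : Fin 1 → F) (hd : d 0 ≠ 0) (σ : F ≃+* F) :
    ∃ M, IsSS (DQ d) σ 1 M := by
  obtain ⟨s, hs0, hs⟩ := exists_sq_twist σ hd
  have hnd : Nondeg (DQ d) := nondeg_DQ h2 d fun i => by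
    fin_cases i
    exact hd
  refine Cfsg.Agent.ClassicalGeometry.OrthSemiForms.exists_isSS hnd one_ne_zero
    (fun v => ![s * σ (v 0)]) ?_ ?_ ?_
  · intro u v
    funext i
    fin_cases i
    change s * σ (u 0 + v 0) = s * σ (u 0) + s * σ (v 0)
    rw [map_add]; ring
  · intro t v
    funext i
    fin_cases i
    change s * σ (t * v 0) = σ t * (s * σ (v 0))
    rw [map_mul]; ring
  · intro v
    rw [DQ_apply, DQ_apply, Fin.sum_univ_one, Fin.sum_univ_one]
    simp only [Matrix.cons_val_zero, map_mul]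
    rw [hs]
    ring

/-- a diagonal reflection -/
def drefl (κ : Type) [DecidableEq κ] (F : Type u) [Field F] (k : κ) : (κ → F) ≃ₗ[F] (κ → F) :=
  LinearEquiv.piCongrRight fun i => if i = k then LinearEquiv.neg F else LinearEquiv.refl F F

theorem drefl_apply (k : κ) (v : κ → F) (i : κ) : drefl κ F k v i = (if i = k then -1 else 1) * v i := by
  change (if i = k then LinearEquiv.neg F else LinearEquiv.refl F F) (v i) = _
  split_ifs <;> simp

theorem drefl_mem_O (d : κ → F) (k : κ) : drefl κ F k ∈ O (DQ d) := by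
  intro v
  rw [DQ_apply, DQ_apply]
  refine Finset.sum_congr rfl fun i _ => ?_
  rw [drefl_apply]
  split_ifs <;> ring

theorem det_drefl (k : κ) : LinearMap.det (drefl κ F k : (κ → F) →ₗ[F] (κ → F)) = -1 := by
  rw [← LinearMap.det_toMatrix']
  have h : LinearMap.toMatrix' (drefl κ F k : (κ → F) →ₗ[F] (κ → F)) =
      Matrix.diagonal (fun i => if i = k then (-1 : F) else 1) := by
    ext i j
    rw [LinearMap.toMatrix'_apply]
    change drefl κ F k _ i = _
    rw [drefl_apply, Matrix.diagonal_apply]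
    by_cases hij : i = j
    · subst hij
      simp
    · simp [hij, Ne.symm hij]
  rw [h, Matrix.det_diagonal, Finset.prod_ite_eq' Finset.univ k (fun _ => (-1 : F))]
  simp

end Model

end Cfsg.Agent.H829.K547
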