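import Mathlib
import Cfsg.Agent.ClassicalGeometry.OrthSemiCount
import Cfsg.Agent.ClassicalGeometry.OrthAut1

/-!
# Frames of isometric blocks in a quadratic space

`V = (Fin m → U) × W` with the form `∑ p (v i) + w y`.
`Fr` = the permutations of `V` which permute the blocks `A i`; `ph : Fr → Sym(m)`.
-/

set_option autoImplicit false

namespace Cfsg.Agent.H829.K547

open QuadraticMap Cfsg.Agent.LieClassical.OrthCore Cfsg.Agent.LieClassical.OrthTrans
  Cfsg.Agent.LieClassical.OrthSimple Cfsg.Agent.ClassicalGeometry.OrthSemi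
  Cfsg.Agent.ClassicalGeometry.OrthSemiCount

variable {F U W : Type*} [Field F] [AddCommGroup U] [Module F U] [AddCommGroup W] [Module F W] {m : ℕ}

theorem pinv {α : Type*} (g : Equiv.Perm α) (x : α) : g (g⁻¹ x) = x := g.apply_symm_apply x

/-- the form `∑ p (v i) + w y` -/
def QM (p : QuadraticForm F U) (w : QuadraticForm F W) (m : ℕ) : QuadraticForm F ((Fin m → U) × W) :=
  (QuadraticMap.pi fun _ : Fin m => p).prod w

variable {p : QuadraticForm F U} {w : QuadraticForm F W}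

theorem QM_apply (v : (Fin m → U) × W) : QM p w m v = ∑ i, p (v.1 i) + w v.2 := by
  rw [QM, QuadraticMap.prod_apply, QuadraticMap.pi_apply]

theorem polar_QM (u v : (Fin m → U) × W) :
    polar (QM p w m) u v = ∑ i, polar p (u.1 i) (v.1 i) + polar w u.2 v.2 := by
  simp only [polar, QM_apply, Prod.fst_add, Prod.snd_add, Pi.add_apply, Finset.sum_sub_distrib]
  ring

/-- the blocks -/
def A (U W : Type*) [AddCommGroup U] [AddCommGroup W] (m : ℕ) (i : Fin m) : Set ((Fin m → U) × W) :=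
  {v | v.2 = 0 ∧ ∀ j, j ≠ i → v.1 j = 0}

theorem single_mem (i : Fin m) (x : U) : ((Pi.single i x, 0) : (Fin m → U) × W) ∈ A U W m i :=
  ⟨rfl, fun j hj => by simp [hj]⟩

theorem eq_single {i : Fin m} {v : (Fin m → U) × W} (h : v ∈ A U W m i) : v = (Pi.single i (v.1 i), 0) := by
  refine Prod.ext ?_ h.1
  funext j
  by_cases hj : j = i
  · subst hj; simp
  · rw [h.2 j hj]; simp [hj]

/-- the permutations of `V` which permute the blocks -/
def Fr (U W : Type*) [AddCommGroup U] [AddCommGroup W] (m : ℕ) : Subgroup (Equiv.Perm ((Fin m → U) × W)) where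
  carrier := {g | ∃ π : Equiv.Perm (Fin m), ∀ i v, g v ∈ A U W m (π i) ↔ v ∈ A U W m i}
  mul_mem' := by
    rintro g h ⟨π, hπ⟩ ⟨ρ, hρ⟩
    exact ⟨π * ρ, fun i v => by
      change g (h v) ∈ A U W m (π (ρ i)) ↔ _
      rw [hπ, hρ]⟩
  one_mem' := ⟨1, fun _ _ => Iff.rfl⟩
  inv_mem' := by
    rintro g ⟨π, hπ⟩
    refine ⟨π⁻¹, fun i v => ?_⟩
    have := hπ (π⁻¹ i) (g⁻¹ v)
    rw [pinv, pinv] at this
    exact this.symm

theorem mem_Fr {g : Equiv.Perm ((Fin m → U) × W)} :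
    g ∈ Fr U W m ↔ ∃ π : Equiv.Perm (Fin m), ∀ i v, g v ∈ A U W m (π i) ↔ v ∈ A U W m i := Iff.rfl

theorem perm_unique [Nontrivial U] {g : Equiv.Perm ((Fin m → U) × W)} {π ρ : Equiv.Perm (Fin m)}
    (hπ : ∀ i v, g v ∈ A U W m (π i) ↔ v ∈ A U W m i) (hρ : ∀ i v, g v ∈ A U W m (ρ i) ↔ v ∈ A U W m i) : π = ρ := by
  obtain ⟨x, hx⟩ := exists_ne (0 : U)
  ext i
  by_contra hne
  have hne' : π i ≠ ρ i := fun h => hne (by rw [h])
  set u : (Fin m → U) × W := (Pi.single (π i) x, 0) with hu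
  have h1 : g⁻¹ u ∈ A U W m i := by
    rw [← hπ i, pinv]
    exact single_mem _ _
  have h2 : u ∈ A U W m (ρ i) := by
    rw [← hρ i, pinv] at h1
    exact h1
  have h3 := h2.2 (π i) hne'
  rw [hu] at h3
  simp at h3
  exact hx h3

/-- the permutation of the blocks -/
noncomputable def ph (U W : Type*) [AddCommGroup U] [AddCommGroup W] [Nontrivial U] (m : ℕ) :
    ↥(Fr U W m) →* Equiv.Perm (Fin m) where
  toFun g := g.2.choose
  map_one' := perm_unique (g := 1) (1 : ↥(Fr U W m)).2.choose_spec (fun _ _ => Iff.rfl)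
  map_mul' g h := by
    refine perm_unique (g := (g * h : ↥(Fr U W m)).1) (g * h).2.choose_spec fun i v => ?_
    change g.1 (h.1 v) ∈ A U W m (g.2.choose (h.2.choose i)) ↔ _
    rw [g.2.choose_spec, h.2.choose_spec]

theorem ph_spec [Nontrivial U] (g : ↥(Fr U W m)) (i : Fin m) (v : (Fin m → U) × W) :
    g.1 v ∈ A U W m (ph U W m g i) ↔ v ∈ A U W m i := g.2.choose_spec i v

theorem ph_eq [Nontrivial U] {g : ↥(Fr U W m)} {π : Equiv.Perm (Fin m)}
    (h : ∀ i v, g.1 v ∈ A U W m (π i) ↔ v ∈ A U W m i) : ph U W m g = π := perm_unique (ph_spec g) h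

/-- the rest `W` is orthogonal to the blocks -/
theorem fst_eq_zero_iff (hp : Nondeg p) {v : (Fin m → U) × W} :
    v.1 = 0 ↔ ∀ i, ∀ u ∈ A U W m i, polar (QM p w m) v u = 0 := by
  constructor
  · intro h i u hu
    rw [polar_QM, hu.1, h]
    simp
  · intro h
    funext i
    refine hp _ fun x => ?_
    have := h i _ (single_mem i x)
    rw [polar_QM, Finset.sum_eq_single i] at this
    · simpa using this
    · intro j _ hj
      simp [hj]
    · intro hi
      exact absurd (Finset.mem_univ i) hi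

theorem fst_eq_zero_of_mem (hp : Nondeg p) {σ : F ≃+* F} {c : F} {g : Equiv.Perm ((Fin m → U) × W)}
    (hg : IsSS (QM p w m) σ c g) (hF : g ∈ Fr U W m) {v : (Fin m → U) × W} (hv : v.1 = 0) : (g v).1 = 0 := by
  obtain ⟨π, hπ⟩ := hF
  rw [fst_eq_zero_iff (w := w) hp]
  intro i u hu
  have h1 : g⁻¹ u ∈ A U W m (π⁻¹ i) := by
    rw [← hπ, pinv, pinv]
    exact hu
  have h2 := (fst_eq_zero_iff (w := w) hp).1 hv _ _ h1
  have h3 := hg.polar v (g⁻¹ u)
  rw [pinv, h2, map_zero, mul_zero] at h3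
  exact h3

/-- linear maps as permutations -/
def tp (V : Type*) [AddCommGroup V] [Module F V] : (V ≃ₗ[F] V) →* Equiv.Perm V where
  toFun g := g.toEquiv
  map_one' := rfl
  map_mul' _ _ := rfl

/-- the isometries which permute the blocks -/
def TO (p : QuadraticForm F U) (w : QuadraticForm F W) (m : ℕ) :
    Subgroup (((Fin m → U) × W) ≃ₗ[F] ((Fin m → U) × W)) :=
  O (QM p w m) ⊓ (Fr U W m).comap (tp ((Fin m → U) × W))

theorem isSS_of_mem_O {V : Type*} [AddCommGroup V] [Module F V] {Q : QuadraticForm F V} {g : V ≃ₗ[F] V}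
    (hg : g ∈ O Q) : IsSS Q (RingEquiv.refl F) 1 (tp V g) := isSS_permO ⟨g, hg⟩

/-- the permutation of the blocks -/
noncomputable def phO (p : QuadraticForm F U) (w : QuadraticForm F W) (m : ℕ) [Nontrivial U] :
    ↥(TO p w m) →* Equiv.Perm (Fin m) :=
  (ph U W m).comp
    { toFun := fun g => ⟨tp _ g.1, g.2.2⟩
      map_one' := rfl
      map_mul' := fun _ _ => rfl }

theorem phO_spec [Nontrivial U] (g : ↥(TO p w m)) (i : Fin m) (v : (Fin m → U) × W) :
    g.1 v ∈ A U W m (phO p w m g i) ↔ v ∈ A U W m i := ph_spec ⟨tp _ g.1, g.2.2⟩ i v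

theorem phO_eq [Nontrivial U] {g : ↥(TO p w m)} {π : Equiv.Perm (Fin m)}
    (h : ∀ i v, g.1 v ∈ A U W m (π i) ↔ v ∈ A U W m i) : phO p w m g = π :=
  perm_unique (g := tp _ g.1) (phO_spec g) h

/-- the action on the rest -/
def Lw (g : ((Fin m → U) × W) ≃ₗ[F] ((Fin m → U) × W)) : W →ₗ[F] W :=
  (LinearMap.snd F (Fin m → U) W).comp (g.toLinearMap.comp (LinearMap.inr F (Fin m → U) W))

theorem Lw_apply (g : ((Fin m → U) × W) ≃ₗ[F] ((Fin m → U) × W)) (y : W) : Lw g y = (g (0, y)).2 := rfl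

theorem Lw_spec (hp : Nondeg p) {g : ((Fin m → U) × W) ≃ₗ[F] ((Fin m → U) × W)} (hg : g ∈ TO p w m) (y : W) :
    g (0, y) = (0, Lw g y) :=
  Prod.ext (fst_eq_zero_of_mem (w := w) hp (isSS_of_mem_O hg.1) hg.2 rfl) rfl

theorem Lw_mul (hp : Nondeg p) (g : ((Fin m → U) × W) ≃ₗ[F] ((Fin m → U) × W))
    {h : ((Fin m → U) × W) ≃ₗ[F] ((Fin m → U) × W)} (hh : h ∈ TO p w m) : Lw (g * h) = Lw g * Lw h := by
  ext y
  change (g (h (0, y))).2 = (g (0, Lw h y)).2
  rw [Lw_spec (w := w) hp hh]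

theorem Lw_one : Lw (1 : ((Fin m → U) × W) ≃ₗ[F] ((Fin m → U) × W)) = 1 := rfl

theorem Lw_form (hp : Nondeg p) {g : ((Fin m → U) × W) ≃ₗ[F] ((Fin m → U) × W)} (hg : g ∈ TO p w m) (y : W) :
    w (Lw g y) = w y := by
  have h1 := hg.1 (0, y)
  rw [Lw_spec (w := w) hp hg, QM_apply, QM_apply] at h1
  simpa using h1

/-- the determinant on the rest -/
noncomputable def dw (hp : Nondeg p) : ↥(TO p w m) →* F where
  toFun g := LinearMap.det (Lw g.1)
  map_one' := by
    rw [OneMemClass.coe_one, Lw_one, map_one]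
  map_mul' g h := by
    rw [Subgroup.coe_mul, Lw_mul (w := w) hp g.1 h.2, map_mul]

theorem dw_apply (hp : Nondeg p) (g : ↥(TO p w m)) : dw hp g = LinearMap.det (Lw g.1) := rfl

end Cfsg.Agent.H829.K547
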