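import Cfsg.Agent.H829.K547.Equi

/-!
# The index of the frame group

`index_eq`; `el` (monomial isometries); `card_dvd` : `|O p| ^ m |O w| m!` divides `|TO|`; `odd_TO`, `odd_Fr`.
-/

set_option autoImplicit false

namespace Cfsg.Agent.H829.K547

open QuadraticMap Cfsg.Agent.LieClassical.OrthCore Cfsg.Agent.LieClassical.OrthTrans
  Cfsg.Agent.LieClassical.OrthSimple Cfsg.Agent.ClassicalGeometry.OrthSemi
  Cfsg.Agent.ClassicalGeometry.OrthSemiCount

theorem index_eq {G K : Type*} [Group G] [Group K] (ι : K →* G) (H : Subgroup G)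
    (h : ∀ g : G, ∃ k : K, (ι k)⁻¹ * g ∈ H) : H.index = (H.comap ι).index := by
  let f : K ⧸ H.comap ι → G ⧸ H := Quotient.map' ι (fun a b hab => by
    rw [QuotientGroup.leftRel_apply] at hab ⊢
    rw [← map_inv, ← map_mul]
    exact hab)
  symm
  refine Nat.card_eq_of_bijective f ⟨?_, ?_⟩
  · intro x y
    induction x using QuotientGroup.induction_on with
    | H x =>
    induction y using QuotientGroup.induction_on with
    | H y =>
    intro hxy
    have h1 : (QuotientGroup.mk (ι x) : G ⧸ H) = QuotientGroup.mk (ι y) := hxy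
    rw [QuotientGroup.eq] at h1 ⊢
    rw [Subgroup.mem_comap, map_mul, map_inv]
    exact h1
  · intro x
    induction x using QuotientGroup.induction_on with
    | H g =>
    obtain ⟨k, hk⟩ := h g
    refine ⟨QuotientGroup.mk k, ?_⟩
    change (QuotientGroup.mk (ι k) : G ⧸ H) = QuotientGroup.mk g
    rw [QuotientGroup.eq]
    exact hk

variable {F U W : Type*} [Field F] [AddCommGroup U] [Module F U] [AddCommGroup W] [Module F W] {m : ℕ}
  {p : QuadraticForm F U} {w : QuadraticForm F W}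

/-- monomial maps -/
def el (a : Fin m → (U ≃ₗ[F] U)) (π : Equiv.Perm (Fin m)) (b : W ≃ₗ[F] W) :
    ((Fin m → U) × W) ≃ₗ[F] ((Fin m → U) × W) :=
  ((LinearEquiv.funCongrLeft F U π⁻¹).trans (LinearEquiv.piCongrRight a)).prodCongr b

theorem el_apply (a : Fin m → (U ≃ₗ[F] U)) (π : Equiv.Perm (Fin m)) (b : W ≃ₗ[F] W) (v : (Fin m → U) × W) :
    el a π b v = (fun j => a j (v.1 (π⁻¹ j)), b v.2) := rfl

theorem el_mem_A (a : Fin m → (U ≃ₗ[F] U)) (π : Equiv.Perm (Fin m)) (b : W ≃ₗ[F] W) (i : Fin m)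
    (v : (Fin m → U) × W) : el a π b v ∈ A U W m (π i) ↔ v ∈ A U W m i := by
  rw [el_apply]
  constructor
  · rintro ⟨h1, h2⟩
    refine ⟨?_, fun j hj => ?_⟩
    · have h1' : b v.2 = 0 := h1
      rwa [LinearEquiv.map_eq_zero_iff] at h1'
    · have h3 : a (π j) (v.1 (π⁻¹ (π j))) = 0 := h2 (π j) (fun h => hj (π.injective h))
      rw [LinearEquiv.map_eq_zero_iff] at h3
      have h4 : π⁻¹ (π j) = j := π.symm_apply_apply j
      rwa [h4] at h3
  · rintro ⟨h1, h2⟩
    refine ⟨?_, fun j hj => ?_⟩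
    · change b v.2 = 0
      rw [h1, map_zero]
    · change a j (v.1 (π⁻¹ j)) = 0
      rw [h2 _ (fun h => hj (by rw [← h]; exact (pinv π j).symm)), map_zero]

theorem el_mem_Fr (a : Fin m → (U ≃ₗ[F] U)) (π : Equiv.Perm (Fin m)) (b : W ≃ₗ[F] W) :
    tp _ (el a π b) ∈ Fr U W m := ⟨π, fun i v => el_mem_A a π b i v⟩

theorem el_mem_TO {a : Fin m → (U ≃ₗ[F] U)} (ha : ∀ i, a i ∈ O p) (π : Equiv.Perm (Fin m)) {b : W ≃ₗ[F] W}
    (hb : b ∈ O w) : el a π b ∈ TO p w m := by
  refine ⟨fun v => ?_, el_mem_Fr a π b⟩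
  rw [QM_apply, QM_apply, el_apply]
  congr 1
  · change ∑ i, p (a i (v.1 (π⁻¹ i))) = _
    simp only [mem_O.1 (ha _)]
    exact Equiv.sum_comp π⁻¹ (fun i => p (v.1 i))
  · exact hb v.2

theorem phO_el [Nontrivial U] {a : Fin m → (U ≃ₗ[F] U)} (ha : ∀ i, a i ∈ O p) (π : Equiv.Perm (Fin m))
    {b : W ≃ₗ[F] W} (hb : b ∈ O w) : phO p w m ⟨el a π b, el_mem_TO ha π hb⟩ = π :=
  phO_eq fun i v => el_mem_A a π b i v

theorem Lw_el (a : Fin m → (U ≃ₗ[F] U)) (π : Equiv.Perm (Fin m)) (b : W ≃ₗ[F] W) : Lw (el a π b) = b := by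
  ext y
  rfl

/-- block diagonal isometries -/
def bl (p : QuadraticForm F U) (w : QuadraticForm F W) (m : ℕ) : (Fin m → ↥(O p)) × ↥(O w) →* ↥(TO p w m) where
  toFun x := ⟨el (fun i => (x.1 i).1) 1 x.2.1, el_mem_TO (fun i => (x.1 i).2) 1 x.2.2⟩
  map_one' := rfl
  map_mul' _ _ := rfl

theorem bl_injective : Function.Injective (bl p w m) := by
  intro x y h
  have h1 : el (fun i => (x.1 i).1) 1 x.2.1 = el (fun i => (y.1 i).1) 1 y.2.1 := congrArg Subtype.val h
  refine Prod.ext ?_ ?_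
  · funext i
    apply Subtype.ext
    ext u
    have h2 := LinearEquiv.congr_fun h1 (Pi.single i u, 0)
    rw [el_apply, el_apply] at h2
    have h3 : (x.1 i).1 ((Pi.single i u : Fin m → U) i) = (y.1 i).1 ((Pi.single i u : Fin m → U) i) :=
      congrFun (congrArg Prod.fst h2) i
    rwa [Pi.single_eq_same] at h3
  · apply Subtype.ext
    have := congrArg Lw h1
    rw [Lw_el, Lw_el] at this
    ext u
    exact LinearMap.congr_fun this u

theorem card_dvd [Nontrivial U] [Finite U] [Finite W] :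
    Nat.card ↥(O p) ^ m * Nat.card ↥(O w) * m.factorial ∣ Nat.card ↥(TO p w m) := by
  have hf : Finite (((Fin m → U) × W) ≃ₗ[F] ((Fin m → U) × W)) :=
    Finite.of_injective (fun e : ((Fin m → U) × W) ≃ₗ[F] ((Fin m → U) × W) => (e : _ → _)) DFunLike.coe_injective
  have h1 : Nat.card ↥(phO p w m).ker * (phO p w m).ker.index = Nat.card ↥(TO p w m) :=
    Subgroup.card_mul_index _
  have hs : Function.Surjective (phO p w m) := fun π =>
    ⟨⟨el (fun _ => 1) π 1, el_mem_TO (fun _ => (O p).one_mem) π (O w).one_mem⟩,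
      phO_el (fun _ => (O p).one_mem) π (O w).one_mem⟩
  rw [Subgroup.index_ker, MonoidHom.range_eq_top.2 hs, Nat.card_congr (Subgroup.topEquiv (G := Equiv.Perm (Fin m))).toEquiv,
    Nat.card_perm, Nat.card_fin] at h1
  rw [← h1]
  refine mul_dvd_mul ?_ dvd_rfl
  have h2 : ∀ x, bl p w m x ∈ (phO p w m).ker := fun x => by
    rw [MonoidHom.mem_ker]
    exact phO_el (fun i => (x.1 i).2) 1 x.2.2
  let f : (Fin m → ↥(O p)) × ↥(O w) →* ↥(phO p w m).ker := (bl p w m).codRestrict _ h2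
  have hfi : Function.Injective f := fun x y h => bl_injective (congrArg Subtype.val h)
  have := Subgroup.card_dvd_of_injective f hfi
  rwa [Nat.card_prod, Nat.card_fun, Nat.card_fin] at this

theorem odd_TO [Nontrivial U] [Finite U] [Finite W] [Finite ↥(O (QM p w m))]
    (hv : padicValNat 2 (Nat.card ↥(O (QM p w m))) ≤
      m * padicValNat 2 (Nat.card ↥(O p)) + padicValNat 2 (Nat.card ↥(O w)) + padicValNat 2 m.factorial) :
    Odd ((TO p w m).subgroupOf (O (QM p w m))).index := by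
  have hf : Finite (((Fin m → U) × W) ≃ₗ[F] ((Fin m → U) × W)) :=
    Finite.of_injective (fun e : ((Fin m → U) × W) ≃ₗ[F] ((Fin m → U) × W) => (e : _ → _)) DFunLike.coe_injective
  have hfU : Finite (U ≃ₗ[F] U) := Finite.of_injective (fun e : U ≃ₗ[F] U => (e : U → U)) DFunLike.coe_injective
  have hfW : Finite (W ≃ₗ[F] W) := Finite.of_injective (fun e : W ≃ₗ[F] W => (e : W → W)) DFunLike.coe_injective
  have h1 : Nat.card ↥(TO p w m) * ((TO p w m).subgroupOf (O (QM p w m))).index = Nat.card ↥(O (QM p w m)) := by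
    rw [← Subgroup.card_mul_index ((TO p w m).subgroupOf (O (QM p w m)))]
    congr 1
    exact (Nat.card_congr (Subgroup.subgroupOfEquivOfLe inf_le_left).toEquiv).symm
  have hT : Nat.card ↥(TO p w m) ≠ 0 := Nat.card_pos.ne'
  have hi : ((TO p w m).subgroupOf (O (QM p w m))).index ≠ 0 := Subgroup.index_ne_zero_of_finite
  have hO : Nat.card ↥(O p) ≠ 0 := Nat.card_pos.ne'
  have hW : Nat.card ↥(O w) ≠ 0 := Nat.card_pos.ne'
  have h2 := congrArg (padicValNat 2) h1
  rw [padicValNat.mul hT hi] at h2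
  have h3 := padicValNat_dvd_iff_le (p := 2) hT (n := m * padicValNat 2 (Nat.card ↥(O p)) +
    padicValNat 2 (Nat.card ↥(O w)) + padicValNat 2 m.factorial)
  have h4 : 2 ^ (m * padicValNat 2 (Nat.card ↥(O p)) +
      padicValNat 2 (Nat.card ↥(O w)) + padicValNat 2 m.factorial) ∣ Nat.card ↥(TO p w m) := by
    refine dvd_trans ?_ (card_dvd (p := p) (w := w) (m := m))
    rw [pow_add, pow_add, mul_comm m, pow_mul]
    exact mul_dvd_mul (mul_dvd_mul (pow_dvd_pow_of_dvd pow_padicValNat_dvd m) pow_padicValNat_dvd)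
      pow_padicValNat_dvd
  have h5 := h3.1 h4
  by_contra hodd
  rw [Nat.not_odd_iff_even] at hodd
  have h6 : 1 ≤ padicValNat 2 ((TO p w m).subgroupOf (O (QM p w m))).index :=
    one_le_padicValNat_of_dvd hi hodd.two_dvd
  omega

/-- the inclusion of the isometries in the semisimilitudes -/
def iO {V : Type*} [AddCommGroup V] [Module F V] (Q : QuadraticForm F V) : ↥(O Q) →* ↥(Gam Q) where
  toFun g := ⟨tp V g.1, _, _, isSS_of_mem_O g.2⟩
  map_one' := rfl
  map_mul' _ _ := rfl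

theorem odd_Fr (h : Odd ((TO p w m).subgroupOf (O (QM p w m))).index)
    (hs : ∀ (σ : F ≃+* F) (c : F) (M : Equiv.Perm ((Fin m → U) × W)), IsSS (QM p w m) σ c M →
      ∃ t ∈ Fr U W m, IsSS (QM p w m) σ c t) :
    Odd ((Fr U W m).subgroupOf (Gam (QM p w m))).index := by
  rw [index_eq (iO (QM p w m))]
  · have e : ((Fr U W m).subgroupOf (Gam (QM p w m))).comap (iO (QM p w m)) =
        (TO p w m).subgroupOf (O (QM p w m)) := by
      ext g
      constructor
      · intro hg
        exact ⟨g.2, hg⟩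
      · intro hg
        exact hg.2
    rw [e]
    exact h
  · rintro ⟨M, σ, c, hM⟩
    obtain ⟨t, ht, hts⟩ := hs σ c M hM
    have h1 := hM.mul hts.inv
    have e1 : σ.symm.trans σ = RingEquiv.refl F := by ext x; simp
    have e2 : c * σ (σ.symm c⁻¹) = 1 := by
      rw [RingEquiv.apply_symm_apply, mul_inv_cancel₀ hM.ne]
    rw [e1, e2] at h1
    obtain ⟨g, hg⟩ := exists_permO h1
    refine ⟨g, ?_⟩
    change (tp _ g.1)⁻¹ * M ∈ Fr U W m
    have e3 : tp _ g.1 = M * t⁻¹ := hg
    rw [e3, mul_inv_rev, inv_inv, mul_assoc, inv_mul_cancel, mul_one]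
    exact ht

/-- semisimilitudes of the frame -/
theorem exists_isSS_Fr [Finite U] [Finite W] {σ : F ≃+* F} {c : F} (hc : c ≠ 0)
    {f : Equiv.Perm U} (hf : IsSS p σ c f) {g : Equiv.Perm W} (hg : IsSS w σ c g) :
    ∃ t ∈ Fr U W m, IsSS (QM p w m) σ c t := by
  let t : Equiv.Perm ((Fin m → U) × W) :=
    Equiv.prodCongr (Equiv.piCongrRight fun _ => f) g
  have ht : ∀ v, t v = (fun i => f (v.1 i), g v.2) := fun v => rfl
  refine ⟨t, ⟨1, fun i v => ?_⟩, hc, ?_, ?_, ?_⟩
  · rw [ht]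
    have hf0 : ∀ x, f x = 0 ↔ x = 0 := fun x => by
      constructor
      · intro h
        apply f.injective
        rw [h, hf.map_zero]
      · rintro rfl
        exact hf.map_zero
    have hg0 : ∀ x, g x = 0 ↔ x = 0 := fun x => by
      constructor
      · intro h
        apply g.injective
        rw [h, hg.map_zero]
      · rintro rfl
        exact hg.map_zero
    constructor
    · rintro ⟨h1, h2⟩
      exact ⟨(hg0 _).1 h1, fun j hj => (hf0 _).1 (h2 j hj)⟩
    · rintro ⟨h1, h2⟩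
      exact ⟨(hg0 _).2 h1, fun j hj => (hf0 _).2 (h2 j hj)⟩
  · intro u v
    rw [ht, ht, ht]
    refine Prod.ext ?_ (hg.add _ _)
    funext i
    exact hf.add _ _
  · intro a v
    rw [ht, ht]
    refine Prod.ext ?_ (hg.smul _ _)
    funext i
    exact hf.smul _ _
  · intro v
    rw [ht, QM_apply, QM_apply, map_add, map_sum, mul_add, Finset.mul_sum, hg.form]
    congr 1
    exact Finset.sum_congr rfl fun i _ => hf.form _

end Cfsg.Agent.H829.K547
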