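import Cfsg.Agent.H829.K547.Homs
import Cfsg.Agent.H122.OrthIso

/-!
# Transport along isometries and isomorphisms
-/

set_option autoImplicit false

namespace Cfsg.Agent.H829.K547

open QuadraticMap Cfsg.Agent.LieClassical.OrthCore Cfsg.Agent.LieClassical.OrthTrans
  Cfsg.Agent.LieClassical.OrthSimple Cfsg.Agent.ClassicalGeometry.OrthSemi
  Cfsg.Agent.ClassicalGeometry.OrthSemiCount Cfsg.Agent.ClassicalGeometry.OrthAut1 Cfsg.Agent.H821.K547
  Cfsg.Agent.H122.OrthIso

universe u v

/-- the conclusion for a group -/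
def ExtD3 (S : Type u) [Group S] : Prop := ∀ τ : MulAut S, TwoPow τ → ¬ IsInn τ → D3 (AutExt τ)

theorem congr_conj {S : Type u} {T : Type v} [Group S] [Group T] (e : S ≃* T) (s : S) :
    MulAut.congr e (MulAut.conj s) = MulAut.conj (e s) := by
  ext x
  change e (s * e.symm x * s⁻¹) = e s * x * (e s)⁻¹
  rw [map_mul, map_mul, map_inv, MulEquiv.apply_symm_apply]

theorem congr_autExt {S : Type u} {T : Type v} [Group S] [Group T] (e : S ≃* T) (τ : MulAut S) :
    (AutExt τ).map (MulAut.congr e).toMonoidHom = AutExt (MulAut.congr e τ) := by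
  rw [AutExt, AutExt, Subgroup.map_sup, MonoidHom.map_zpowers]
  congr 1
  ext x
  constructor
  · rintro ⟨_, ⟨s, rfl⟩, rfl⟩
    exact ⟨e s, (congr_conj e s).symm⟩
  · rintro ⟨t, rfl⟩
    refine ⟨MulAut.conj (e.symm t), ⟨_, rfl⟩, ?_⟩
    have := congr_conj e (e.symm t)
    rw [MulEquiv.apply_symm_apply] at this
    exact this

theorem ExtD3.congr {S : Type u} {T : Type v} [Group S] [Group T] [Finite S] (e : S ≃* T) (h : ExtD3 S) :
    ExtD3 T := by
  intro τ' h1 h2
  have hfin : Finite (MulAut S) := Finite.of_injective (fun e : MulAut S => (e : S → S)) DFunLike.coe_injective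
  obtain ⟨τ, rfl⟩ := (MulAut.congr e).surjective τ'
  have ha : ∀ x, (MulAut.congr e τ) (e x) = e (τ x) := fun x => by
    change e (τ (e.symm (e x))) = _
    rw [MulEquiv.symm_apply_apply]
  have h3 : TwoPow τ := by
    obtain ⟨k, t, ht⟩ := h1
    refine ⟨k, e.symm t, fun x => ?_⟩
    apply e.injective
    have h4 := ht (e x)
    rw [← map_pow] at h4
    change e ((τ ^ 2 ^ k) (e.symm (e x))) = _ at h4
    rw [MulEquiv.symm_apply_apply] at h4
    rw [h4, map_mul, map_mul, map_inv, MulEquiv.apply_symm_apply]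
  have h4 : ¬ IsInn τ := by
    rintro ⟨s, hs⟩
    apply h2
    refine ⟨e s, fun x => ?_⟩
    obtain ⟨x, rfl⟩ := e.surjective x
    rw [ha, hs, map_mul, map_mul, map_inv]
  have h5 := h τ h3 h4
  have e1 : AutExt τ ≃* AutExt (MulAut.congr e τ) :=
    ((MulAut.congr e).subgroupMap (AutExt τ)).trans (MulEquiv.subgroupCongr (congr_autExt e τ))
  exact d3_congr e1 h5

section Iso

variable {F : Type*} {V V' : Type*} [Field F] [AddCommGroup V] [Module F V] [AddCommGroup V'] [Module F V']
  {Q : QuadraticForm F V} {Q' : QuadraticForm F V'}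

theorem map_cj_O {e : V ≃ₗ[F] V'} (he : ∀ v, Q' (e v) = Q v) :
    (O Q).map (cj e).toMonoidHom = O Q' := by
  ext g
  constructor
  · rintro ⟨h, hh, rfl⟩
    intro v
    obtain ⟨v, rfl⟩ := e.surjective v
    change Q' (e (h (e.symm (e v)))) = _
    rw [LinearEquiv.symm_apply_apply, he, he, hh v]
  · intro hg
    refine ⟨(cj e).symm g, fun v => ?_, (cj e).apply_symm_apply g⟩
    change Q (e.symm (g (e v))) = Q v
    rw [← he, LinearEquiv.apply_symm_apply, hg, he]

theorem card_O_iso (h : IsoQ Q Q') : Nat.card ↥(O Q) = Nat.card ↥(O Q') := by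
  obtain ⟨e, he⟩ := h
  exact Nat.card_congr (((cj e).subgroupMap (O Q)).trans (MulEquiv.subgroupCongr (map_cj_O he))).toEquiv

theorem equiv_P (h : IsoQ Q Q') : Nonempty (P Q ≃* P Q') := by
  obtain ⟨e⟩ := h.equiv
  exact ⟨Cfsg.Agent.LieClassical.OrthFinite.quotientCenterCongr e⟩

theorem isSS_iso {e : V ≃ₗ[F] V'} (he : ∀ v, Q' (e v) = Q v) {σ : F ≃+* F} {c : F} {M : Equiv.Perm V}
    (hM : IsSS Q σ c M) : IsSS Q' σ c (e.toEquiv.permCongr M) := by
  refine ⟨hM.ne, fun u v => ?_, fun a v => ?_, fun v => ?_⟩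
  · change e (M (e.symm (u + v))) = e (M (e.symm u)) + e (M (e.symm v))
    rw [map_add, hM.add, map_add]
  · change e (M (e.symm (a • v))) = σ a • e (M (e.symm v))
    rw [map_smul, hM.smul, map_smul]
  · change Q' (e (M (e.symm v))) = c * σ (Q' v)
    rw [he, hM.form, ← he, LinearEquiv.apply_symm_apply]

theorem card_Gam_iso (h : IsoQ Q Q') : Nat.card ↥(Gam Q) = Nat.card ↥(Gam Q') := by
  obtain ⟨e, he⟩ := h
  have he' : ∀ v, Q (e.symm v) = Q' v := fun v => by rw [← he, LinearEquiv.apply_symm_apply]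
  refine Nat.card_congr
    { toFun := fun M => ⟨e.toEquiv.permCongr M.1, by
        obtain ⟨σ, c, hM⟩ := M.2
        exact ⟨σ, c, isSS_iso he hM⟩⟩
      invFun := fun M => ⟨e.symm.toEquiv.permCongr M.1, by
        obtain ⟨σ, c, hM⟩ := M.2
        exact ⟨σ, c, isSS_iso he' hM⟩⟩
      left_inv := fun M => ?_
      right_inv := fun M => ?_ }
  · apply Subtype.ext
    ext v
    change e.symm (e (M.1 (e.symm (e v)))) = M.1 v
    rw [LinearEquiv.symm_apply_apply, LinearEquiv.symm_apply_apply]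
  · apply Subtype.ext
    ext v
    change e (e.symm (M.1 (e (e.symm v)))) = M.1 v
    rw [LinearEquiv.apply_symm_apply, LinearEquiv.apply_symm_apply]

theorem finite_mulAut {S : Type*} [Group S] [Finite S] : Finite (MulAut S) :=
  Finite.of_injective (fun e : MulAut S => (e : S → S)) DFunLike.coe_injective

theorem finite_glin [Finite V] : Finite (V ≃ₗ[F] V) :=
  Finite.of_injective (fun e : V ≃ₗ[F] V => (e : V → V)) DFunLike.coe_injective

theorem index_Psi_iso [Finite V] [Finite V'] (hG : Good Q) (hG' : Good Q') (h : IsoQ Q Q') :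
    (Psi Q).range.index = (Psi Q').range.index := by
  obtain ⟨e⟩ := equiv_P h
  have h1 := card_Gam_iso h
  rw [card_Gam hG, card_Gam hG'] at h1
  have f1 : Finite (V ≃ₗ[F] V) := finite_glin
  have f2 : Finite (V' ≃ₗ[F] V') := finite_glin
  have f3 : Finite (MulAut (P Q)) := finite_mulAut
  have f4 : Finite (MulAut (P Q')) := finite_mulAut
  have fF : Finite F := by
    obtain ⟨x, y, hxy⟩ := hG.exists_hyp
    refine Finite.of_injective (fun a : F => a • x) fun a b hab => ?_
    have h2 : (a - b) • x = 0 := by rw [sub_smul]; exact sub_eq_zero.2 hab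
    rcases smul_eq_zero.1 h2 with h3 | h3
    · exact sub_eq_zero.1 h3
    · exact absurd h3 hxy.left_ne
  have hF : 0 < Nat.card Fˣ := Nat.card_pos
  have h2 := Nat.eq_of_mul_eq_mul_right hF h1
  have h3 := Subgroup.card_mul_index (Psi Q).range
  have h4 := Subgroup.card_mul_index (Psi Q').range
  have h5 : Nat.card (MulAut (P Q)) = Nat.card (MulAut (P Q')) := Nat.card_congr (MulAut.congr e).toEquiv
  have h6 : 0 < Nat.card ↥(Psi Q).range := Nat.card_pos
  apply Nat.eq_of_mul_eq_mul_left h6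
  rw [h3, h5, ← h4, h2]

end Iso

end Cfsg.Agent.H829.K547
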