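import Cfsg.Agent.H829.K547.Idx

/-!
# Elements of `E Q` in the frame group

`exists_mem_E` : every `g ∈ TO` is `el1 a * h` with `a ∈ O p`, `h ∈ E Q` if the form `p` of the blocks is universal.
-/

set_option autoImplicit false

namespace Cfsg.Agent.H829.K547

open QuadraticMap Cfsg.Agent.LieClassical.OrthCore Cfsg.Agent.LieClassical.OrthTrans
  Cfsg.Agent.LieClassical.OrthSimple Cfsg.Agent.ClassicalGeometry.OrthSemi
  Cfsg.Agent.ClassicalGeometry.OrthSemiCount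

variable {F U W : Type*} [Field F] [AddCommGroup U] [Module F U] [AddCommGroup W] [Module F W] {m : ℕ}
  {p : QuadraticForm F U} {w : QuadraticForm F W}

/-- an isometry of one block -/
def el1 (W : Type*) [AddCommGroup W] [Module F W] (i0 : Fin m) (a : U ≃ₗ[F] U) :
    ((Fin m → U) × W) ≃ₗ[F] ((Fin m → U) × W) :=
  el (Function.update (fun _ => (1 : U ≃ₗ[F] U)) i0 a) 1 (1 : W ≃ₗ[F] W)

theorem upd_mem (i0 : Fin m) {a : U ≃ₗ[F] U} (ha : a ∈ O p) (i : Fin m) :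
    Function.update (fun _ => (1 : U ≃ₗ[F] U)) i0 a i ∈ O p := by
  by_cases hi : i = i0
  · subst hi; rw [Function.update_self]; exact ha
  · rw [Function.update_of_ne hi]; exact (O p).one_mem

theorem el1_mem_TO (i0 : Fin m) {a : U ≃ₗ[F] U} (ha : a ∈ O p) : el1 W i0 a ∈ TO p w m :=
  el_mem_TO (upd_mem i0 ha) 1 (O w).one_mem

theorem el1_apply (i0 : Fin m) (a : U ≃ₗ[F] U) (v : (Fin m → U) × W) :
    el1 W i0 a v = (Function.update v.1 i0 (a (v.1 i0)), v.2) := by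
  rw [el1, el_apply]
  refine Prod.ext ?_ rfl
  funext j
  change Function.update (fun _ => (1 : U ≃ₗ[F] U)) i0 a j (v.1 j) = Function.update v.1 i0 (a (v.1 i0)) j
  by_cases hj : j = i0
  · subst hj; rw [Function.update_self, Function.update_self]
  · rw [Function.update_of_ne hj, Function.update_of_ne hj]; rfl

theorem el1_mul (i0 : Fin m) (a b : U ≃ₗ[F] U) : el1 W i0 (a * b) = el1 W i0 a * el1 W i0 b := by
  ext v : 1
  change el1 W i0 (a * b) v = el1 W i0 a (el1 W i0 b v)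
  rw [el1_apply, el1_apply, el1_apply]
  simp

theorem el1_one (i0 : Fin m) : el1 W i0 (1 : U ≃ₗ[F] U) = 1 := by
  ext v : 1
  rw [el1_apply]
  change (Function.update v.1 i0 (v.1 i0), v.2) = v
  rw [Function.update_eq_self]

theorem el1_refl (i0 : Fin m) {u : U} (hu : p u ≠ 0) (hu' : QM p w m (Pi.single i0 u, 0) ≠ 0) :
    el1 W i0 (refl p u hu) = refl (QM p w m) (Pi.single i0 u, 0) hu' := by
  have e1 : QM p w m (Pi.single i0 u, 0) = p u := by
    rw [QM_apply, Finset.sum_eq_single i0]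
    · simp
    · intro j _ hj
      simp [hj]
    · intro h
      exact absurd (Finset.mem_univ _) h
  ext v : 1
  have e2 : polar (QM p w m) (Pi.single i0 u, 0) v = polar p u (v.1 i0) := by
    rw [polar_QM, Finset.sum_eq_single i0]
    · simp
    · intro j _ hj
      simp [hj]
    · intro h
      exact absurd (Finset.mem_univ _) h
  rw [refl_apply, e1, e2, el1_apply, refl_apply]
  refine Prod.ext ?_ ?_
  · funext j
    by_cases hj : j = i0
    · subst hj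
      simp
    · simp [hj]
  · simp

theorem exists_mem_E [FiniteDimensional F ((Fin m → U) × W)] (hG : Good (QM p w m)) (i0 : Fin m)
    (hu : ∀ c : F, ∃ u, p u = c) {g : ((Fin m → U) × W) ≃ₗ[F] ((Fin m → U) × W)} (hg : g ∈ O (QM p w m)) :
    ∃ a ∈ O p, (el1 W i0 a)⁻¹ * g ∈ E (QM p w m) := by
  have hO : ∀ a ∈ O p, el1 W i0 a ∈ O (QM p w m) := fun a ha => (el1_mem_TO (w := w) i0 ha).1
  rw [O_eq_closure hG.nondeg] at hg
  induction hg using Subgroup.closure_induction with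
  | mem x hx =>
    rcases hx with ⟨v, hv, rfl⟩ | hx
    · obtain ⟨u, hu'⟩ := hu (QM p w m v)
      have hpu : p u ≠ 0 := by rw [hu']; exact hv
      have e1 : QM p w m (Pi.single i0 u, 0) = p u := by
        rw [QM_apply, Finset.sum_eq_single i0]
        · simp
        · intro j _ hj
          simp [hj]
        · intro h
          exact absurd (Finset.mem_univ _) h
      have hu2 : QM p w m (Pi.single i0 u, 0) ≠ 0 := by rw [e1]; exact hpu
      refine ⟨refl p u hpu, refl_mem_O hpu, ?_⟩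
      rw [el1_refl i0 hpu hu2, refl_inv]
      exact hG.refl_mul_refl_mem hv hu2 (by rw [e1, hu'])
    · obtain ⟨u, y, h1, h2, rfl⟩ := hx
      refine ⟨1, (O p).one_mem, ?_⟩
      rw [el1_one, inv_one, one_mul]
      exact siegel_mem_E h1 h2
  | one => exact ⟨1, (O p).one_mem, by rw [el1_one, inv_one, one_mul]; exact (E _).one_mem⟩
  | mul x y hx hy ihx ihy =>
    obtain ⟨a, ha, hxa⟩ := ihx
    obtain ⟨b, hb, hyb⟩ := ihy
    refine ⟨a * b, (O p).mul_mem ha hb, ?_⟩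
    have e : (el1 W i0 (a * b))⁻¹ * (x * y) =
        ((el1 W i0 b)⁻¹ * ((el1 W i0 a)⁻¹ * x) * (el1 W i0 b)⁻¹⁻¹) * ((el1 W i0 b)⁻¹ * y) := by
      rw [el1_mul]; group
    rw [e]
    exact (E _).mul_mem (conj_mem_E ((O _).inv_mem (hO b hb)) hxa) hyb
  | inv x hx ihx =>
    obtain ⟨a, ha, hxa⟩ := ihx
    refine ⟨a⁻¹, (O p).inv_mem ha, ?_⟩
    have e0 : el1 W i0 a⁻¹ = (el1 W i0 a)⁻¹ := by
      rw [eq_inv_iff_mul_eq_one, ← el1_mul, inv_mul_cancel, el1_one]
    have e : (el1 W i0 a⁻¹)⁻¹ * x⁻¹ = el1 W i0 a * ((el1 W i0 a)⁻¹ * x)⁻¹ * (el1 W i0 a)⁻¹ := by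
      rw [e0]; group
    rw [e]
    exact conj_mem_E (hO a ha) ((E _).inv_mem hxa)

theorem phO_el1 [Nontrivial U] (i0 : Fin m) {a : U ≃ₗ[F] U} (ha : a ∈ O p) :
    phO p w m ⟨el1 W i0 a, el1_mem_TO i0 ha⟩ = 1 := phO_el (upd_mem i0 ha) 1 (O w).one_mem

theorem dw_el1 (hp : Nondeg p) (i0 : Fin m) {a : U ≃ₗ[F] U} (ha : a ∈ O p) :
    dw hp (⟨el1 W i0 a, el1_mem_TO i0 ha⟩ : ↥(TO p w m)) = 1 := by
  rw [dw_apply]
  change LinearMap.det (Lw (el _ 1 (1 : W ≃ₗ[F] W))) = 1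
  rw [Lw_el]
  exact LinearMap.det_id

/-- every value of `f` is taken on `E Q` -/
theorem exists_mem_E_eq [FiniteDimensional F ((Fin m → U) × W)] (hG : Good (QM p w m)) (i0 : Fin m)
    (hu : ∀ c : F, ∃ u, p u = c) {Y : Type*} [Group Y] (f : ↥(TO p w m) →* Y)
    (hf : ∀ (a : U ≃ₗ[F] U) (ha : a ∈ O p), f ⟨el1 W i0 a, el1_mem_TO i0 ha⟩ = 1) (g : ↥(TO p w m)) :
    ∃ h : ↥(TO p w m), h.1 ∈ E (QM p w m) ∧ f h = f g := by
  obtain ⟨a, ha, hga⟩ := exists_mem_E hG i0 hu g.2.1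
  obtain ⟨k, hk⟩ : ∃ k : ↥(TO p w m), k = ⟨el1 W i0 a, el1_mem_TO i0 ha⟩ := ⟨_, rfl⟩
  have hk1 : k.1 = el1 W i0 a := by rw [hk]
  refine ⟨k⁻¹ * g, ?_, ?_⟩
  · rw [Subgroup.coe_mul, Subgroup.coe_inv, hk1]
    exact hga
  · rw [map_mul, map_inv, hk, hf a ha, inv_one, one_mul]

end Cfsg.Agent.H829.K547
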