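import Cfsg.Agent.H829.K547.Abs
import Cfsg.Agent.H829.K547.Surj

/-!
# `D3 (AutExt τ)` from a frame group of odd index

`InvTool` : the tool (d) INV of TOOL3; `d3_of_frame`.
-/

set_option autoImplicit false

namespace Cfsg.Agent.H829.K547

open QuadraticMap Cfsg.Agent.LieClassical.OrthCore Cfsg.Agent.LieClassical.OrthTrans
  Cfsg.Agent.LieClassical.OrthSimple Cfsg.Agent.ClassicalGeometry.OrthSemi
  Cfsg.Agent.ClassicalGeometry.OrthSemiCount Cfsg.Agent.ClassicalGeometry.OrthAut1 Cfsg.Agent.H821.K547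

universe u v

/-- the tool INV -/
def InvTool : Prop :=
  ∀ {S : Type u} [Group S] [Finite S] [IsSimpleGroup S], Subgroup.center S = ⊥ →
    ∀ τ : MulAut S, TwoPow τ → ¬ IsInn τ → ∀ (s : S) (M : Subgroup S), Odd M.index →
    ∀ (hM : ∀ x ∈ M, (MulAut.conj s * τ) x ∈ M) {Y : Type v} [Group Y] [Finite Y] (f : M →* Y),
    Function.Surjective f → ∀ y : Y, (∀ (x : S) (hx : x ∈ M),
      f ⟨(MulAut.conj s * τ) x, hM x hx⟩ = y * f ⟨x, hx⟩ * y⁻¹) → (∀ R : Sylow 2 Y, Rk 2 R) → D3 (AutExt τ)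

theorem isInn_conj {S : Type u} [Group S] {τ g : MulAut S} (h : IsInn (g * τ * g⁻¹)) : IsInn τ := by
  obtain ⟨s, hs⟩ := h
  refine ⟨g⁻¹ s, fun x => ?_⟩
  have h1 := hs (g x)
  have e : (g * τ * g⁻¹) (g x) = g (τ x) := by
    change g (τ (g.symm (g x))) = _
    rw [MulEquiv.symm_apply_apply]
  rw [e] at h1
  have h2 := congrArg (fun z => (g⁻¹ : MulAut S) z) h1
  beta_reduce at h2
  have e1 : ∀ z, (g⁻¹ : MulAut S) (g z) = z := fun z => g.symm_apply_apply z
  rwa [map_mul, map_mul, map_inv, e1, e1] at h2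

theorem twoPow_conj {S : Type u} [Group S] {τ g : MulAut S} (h : TwoPow τ) : TwoPow (g * τ * g⁻¹) := by
  obtain ⟨k, s, hs⟩ := h
  refine ⟨k, g s, fun x => ?_⟩
  have e : (g * τ * g⁻¹) ^ 2 ^ k = g * τ ^ 2 ^ k * g⁻¹ := by
    rw [conj_pow]
  rw [e]
  change g ((τ ^ 2 ^ k) (g.symm x)) = _
  rw [hs, map_mul, map_mul, map_inv, MulEquiv.apply_symm_apply]

theorem rk_congr {n : ℕ} {P : Type u} {R : Type v} [Group P] [Group R] (e : P ≃* R) (h : Rk n P) : Rk n R := by
  obtain ⟨f, hf⟩ := h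
  exact ⟨f.comp e.symm.toMonoidHom, hf.comp e.symm.surjective⟩

theorem d3_congr {G : Type u} {K : Type v} [Group G] [Group K] [Finite G] (e : G ≃* K) (h : D3 G) : D3 K := by
  intro R
  have : Finite K := Finite.of_equiv _ e.toEquiv
  let R' : Sylow 2 G := R.comapOfInjective e.toMonoidHom e.injective (by
    rw [MonoidHom.range_eq_top.2 (show Function.Surjective e.toMonoidHom from e.surjective)]
    exact le_top)
  have h1 := h R'
  have e1 : ↥(R' : Subgroup G) ≃* ↥(R : Subgroup K) := by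
    have e2 : (R' : Subgroup G).map e.toMonoidHom = R := by
      change ((R : Subgroup K).comap e.toMonoidHom).map e.toMonoidHom = R
      exact Subgroup.map_comap_eq_self_of_surjective e.surjective _
    exact (e.subgroupMap (R' : Subgroup G)).trans (MulEquiv.subgroupCongr e2)
  exact rk_congr e1 h1

theorem autExt_conj {S : Type u} [Group S] (τ g : MulAut S) :
    (AutExt τ).map (MulAut.conj g).toMonoidHom = AutExt (g * τ * g⁻¹) := by
  rw [AutExt, AutExt, Subgroup.map_sup, MonoidHom.map_zpowers]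
  congr 1
  have := conj_range_normal (S := S)
  apply le_antisymm
  · rintro _ ⟨x, hx, rfl⟩
    exact this.conj_mem x hx g
  · intro x hx
    refine ⟨g⁻¹ * x * g⁻¹⁻¹, this.conj_mem x hx g⁻¹, ?_⟩
    change g * (g⁻¹ * x * g⁻¹⁻¹) * g⁻¹ = x
    group

theorem d3_autExt_conj {S : Type u} [Group S] [Finite S] {τ g : MulAut S} (h : D3 (AutExt (g * τ * g⁻¹))) :
    D3 (AutExt τ) := by
  have hfin : Finite (MulAut S) := Finite.of_injective (fun e : MulAut S => (e : S → S)) DFunLike.coe_injective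
  have e : AutExt τ ≃* AutExt (g * τ * g⁻¹) :=
    ((MulAut.conj g).subgroupMap (AutExt τ)).trans (MulEquiv.subgroupCongr (autExt_conj τ g))
  exact d3_congr e.symm h

section Q

variable {F V : Type u} [Field F] [AddCommGroup V] [Module F V] {Q : QuadraticForm F V}

theorem conj_mk (h : ↥(E Q)) : MulAut.conj (QuotientGroup.mk h : P Q) = Psi Q (iO Q ⟨h.1, E_le_O h.2⟩) := by
  ext x
  induction x using QuotientGroup.induction_on with
  | H k =>
    rw [Psi_mk]
    change (QuotientGroup.mk (h * k * h⁻¹) : P Q) = _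
    congr 1

theorem center_P (hG : Good Q) : Subgroup.center (P Q) = ⊥ := by
  have hs := good_isSimpleGroup hG
  rcases hs.eq_bot_or_eq_top_of_normal (Subgroup.center (P Q)) inferInstance with h | h
  · exact h
  · exfalso
    have hcomm : ∀ x y : P Q, x * y = y * x := fun x y => by
      have : y ∈ Subgroup.center (P Q) := by rw [h]; exact Subgroup.mem_top y
      exact (Subgroup.mem_center_iff.1 this x)
    obtain ⟨x, hx⟩ := exists_ne (1 : P Q)
    apply hx
    induction x using QuotientGroup.induction_on with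
    | H k =>
      have hk : k ∈ commutator ↥(E Q) := by rw [commutator_E hG]; exact Subgroup.mem_top k
      have hle : commutator ↥(E Q) ≤ (QuotientGroup.mk' (Subgroup.center ↥(E Q))).ker := by
        rw [commutator_def, Subgroup.commutator_le]
        intro a _ b _
        rw [MonoidHom.mem_ker, map_commutatorElement, commutatorElement_eq_one_iff_mul_comm]
        exact hcomm _ _
      exact hle hk

end Q

variable {F U W : Type u} [Field F] [AddCommGroup U] [Module F U] [AddCommGroup W] [Module F W] {m : ℕ}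
  {p : QuadraticForm F U} {w : QuadraticForm F W}

theorem scal_mem_Fr (a : Fˣ) : (scal (QM p w m) a).1 ∈ Fr U W m := by
  refine ⟨1, fun i v => ?_⟩
  rw [scal_apply]
  constructor
  · rintro ⟨h1, h2⟩
    refine ⟨?_, fun j hj => ?_⟩
    · have h3 : (a : F) • v.2 = 0 := h1
      exact (smul_eq_zero.1 h3).resolve_left a.ne_zero
    · have h3 : (a : F) • v.1 j = 0 := h2 j hj
      exact (smul_eq_zero.1 h3).resolve_left a.ne_zero
  · rintro ⟨h1, h2⟩
    refine ⟨?_, fun j hj => ?_⟩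
    · change (a : F) • v.2 = 0
      rw [h1, smul_zero]
    · change (a : F) • v.1 j = 0
      rw [h2 j hj, smul_zero]

theorem d3_of_frame (inv : InvTool.{u, v}) [Finite U] [Finite W] (hG : Good (QM p w m))
    (hodd : Odd ((Fr U W m).subgroupOf (Gam (QM p w m))).index) (hpsi : Odd (Psi (QM p w m)).range.index)
    {Y : Type v} [Group Y] [Finite Y] (f : ↥(TO p w m) →* Y)
    (hsurj : ∀ y, ∃ g : ↥(TO p w m), g.1 ∈ E (QM p w m) ∧ f g = y)
    (hcen : ∀ (g : ↥(TO p w m)) (hg : g.1 ∈ E (QM p w m)), (⟨g.1, hg⟩ : ↥(E (QM p w m))) ∈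
      Subgroup.center ↥(E (QM p w m)) → f g = 1)
    (hequi : ∀ (t : Gam (QM p w m)) (ht : t.1 ∈ Fr U W m), ∃ y : Y, ∀ g : ↥(TO p w m),
      f ⟨conjLin t g.1, conj_mem_TO ht g.2⟩ = y * f g * y⁻¹)
    (hY : ∀ R : Sylow 2 Y, Rk 2 R) (τ : MulAut (P (QM p w m))) (hτ : TwoPow τ) (hn : ¬ IsInn τ) :
    D3 (AutExt τ) := by
  have hsim := good_isSimpleGroup hG
  have hfV : Finite ((Fin m → U) × W) := inferInstance
  have hfG : Finite (((Fin m → U) × W) ≃ₗ[F] ((Fin m → U) × W)) :=
    Finite.of_injective (fun e : ((Fin m → U) × W) ≃ₗ[F] ((Fin m → U) × W) => (e : _ → _)) DFunLike.coe_injective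
  have hfP : Finite (P (QM p w m)) := inferInstance
  set H : Subgroup (MulAut (P (QM p w m))) := ((Fr U W m).subgroupOf (Gam (QM p w m))).map (Psi (QM p w m)) with hH
  have hHodd : Odd H.index := by
    rw [hH, Subgroup.index_map]
    exact (Odd.of_dvd_nat hodd (Subgroup.index_dvd_of_le le_sup_left)).mul hpsi
  obtain ⟨g, s, hgs⟩ := exists_conj_mem hτ hHodd
  apply d3_autExt_conj (g := g)
  set τ₁ := g * τ * g⁻¹ with hτ₁
  -- elements of `M`
  set M : Subgroup (P (QM p w m)) := H.comap (MulAut.conj : P (QM p w m) →* MulAut (P (QM p w m))) with hM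
  have hMmem : ∀ h : ↥(E (QM p w m)), (QuotientGroup.mk h : P (QM p w m)) ∈ M ↔ h.1 ∈ TO p w m := by
    intro h
    rw [hM, Subgroup.mem_comap, conj_mk, hH]
    constructor
    · rintro ⟨t, ht, hth⟩
      refine ⟨E_le_O h.2, ?_⟩
      have h1 : t⁻¹ * iO (QM p w m) ⟨h.1, E_le_O h.2⟩ ∈ (Psi (QM p w m)).ker := by
        rw [MonoidHom.mem_ker, map_mul, map_inv, hth, inv_mul_cancel]
      rw [ker_Psi hG] at h1
      obtain ⟨a, ha⟩ := h1
      have h2 : iO (QM p w m) ⟨h.1, E_le_O h.2⟩ = t * scal (QM p w m) a := by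
        rw [ha, mul_inv_cancel_left]
      have h3 : tp _ h.1 = t.1 * (scal (QM p w m) a).1 := congrArg Subtype.val h2
      change tp _ h.1 ∈ Fr U W m
      rw [h3]
      exact (Fr U W m).mul_mem ht (scal_mem_Fr a)
    · intro h1
      exact ⟨_, h1.2, rfl⟩
  let ME : Subgroup ↥(E (QM p w m)) := (TO p w m).subgroupOf (E (QM p w m))
  let q : ↥ME →* ↥M :=
    ((QuotientGroup.mk' (Subgroup.center ↥(E (QM p w m)))).comp ME.subtype).codRestrict M
      (fun h => (hMmem h.1).2 h.2)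
  have hq : Function.Surjective q := by
    rintro ⟨x, hx⟩
    induction x using QuotientGroup.induction_on with
    | H k => exact ⟨⟨k, (hMmem k).1 hx⟩, Subtype.ext rfl⟩
  let f' : ↥ME →* Y := f.comp
    { toFun := fun h => ⟨h.1.1, h.2⟩
      map_one' := rfl
      map_mul' := fun _ _ => rfl }
  have hker : q.ker ≤ f'.ker := by
    intro h hh
    rw [MonoidHom.mem_ker] at hh ⊢
    refine hcen ⟨h.1.1, h.2⟩ h.1.2 ?_
    have h1 : (QuotientGroup.mk h.1 : P (QM p w m)) = 1 := congrArg Subtype.val hh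
    rw [QuotientGroup.eq_one_iff] at h1
    exact h1
  let Φ : ↥M →* Y := q.liftOfSurjective hq ⟨f', hker⟩
  have hΦ : ∀ h : ↥ME, Φ (q h) = f' h := fun h => MonoidHom.liftOfRightInverse_comp_apply _ _ _ ⟨f', hker⟩ h
  obtain ⟨t, ht, hts⟩ := hgs
  obtain ⟨y, hy⟩ := hequi t ht
  have hact : ∀ k : ↥(E (QM p w m)), (MulAut.conj s * τ₁) (QuotientGroup.mk k : P (QM p w m)) =
      QuotientGroup.mk (conjE (QM p w m) t k) := by
    intro k
    rw [← hts, Psi_mk]
  have hstab : ∀ x ∈ M, (MulAut.conj s * τ₁) x ∈ M := by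
    intro x hx
    induction x using QuotientGroup.induction_on with
    | H k =>
      rw [hact, hMmem]
      exact conj_mem_TO ht ((hMmem k).1 hx)
  refine inv (center_P hG) τ₁ (twoPow_conj hτ) (fun h => hn (isInn_conj h)) s M (odd_index_comap hHodd) hstab Φ ?_ y
    ?_ hY
  · intro y'
    obtain ⟨g', hg', e⟩ := hsurj y'
    refine ⟨q ⟨⟨g'.1, hg'⟩, g'.2⟩, ?_⟩
    rw [hΦ]
    exact e
  · intro x hx
    induction x using QuotientGroup.induction_on with
    | H k =>
      have hk := (hMmem k).1 hx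
      have e1 : (⟨(MulAut.conj s * τ₁) (QuotientGroup.mk k), hstab _ hx⟩ : ↥M) =
          q ⟨conjE (QM p w m) t k, conj_mem_TO ht hk⟩ := Subtype.ext (hact k)
      have e2 : (⟨QuotientGroup.mk k, hx⟩ : ↥M) = q ⟨k, hk⟩ := rfl
      rw [e1, e2, hΦ, hΦ]
      exact hy ⟨k.1, hk⟩

end Cfsg.Agent.H829.K547
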