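import Cfsg.Agent.H829.K547.Cover
import Cfsg.Agent.H716.K547.Inv
import Cfsg.Agent.S0249

/-!
# S4547, QO-EXT3: outer automorphisms of `PSL_3(q)`, `q ≡ 1 mod 4` (helper829)
-/

set_option autoImplicit false

namespace Cfsg.Agent.H829.K547.PslA

open Matrix Equiv
open Cfsg.Agent.ClassicalGeometry.AutPSL.Root
open Cfsg.Agent.ClassicalGeometry.AutPSL.Auto
open Cfsg.Agent.ClassicalGeometry.AutPSL.Main
open Cfsg.Agent.H183.OutPSL
open Cfsg.Agent.H716.K547 Cfsg.Agent.H821.K547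

variable {F : Type*} [Field F]

/-- the entry at `(0, 0)` of a product -/
theorem entry_mul {x y : Matrix (Fin 3) (Fin 3) F} {ρ : Perm (Fin 3)} (hy : IsPM y ρ) (hρ : ρ 0 = 0) :
    (x * y) 0 0 = x 0 0 * y 0 0 := by
  rw [Matrix.mul_apply]
  refine Finset.sum_eq_single 0 (fun k _ hk => ?_) fun hk => absurd (Finset.mem_univ _) hk
  rw [hy.zero (i := k) (j := 0) (by rw [hρ]; exact hk), mul_zero]

theorem entry_ne {x : Matrix (Fin 3) (Fin 3) F} {π : Perm (Fin 3)} (h : IsPM x π) (hπ : π 0 = 0) : x 0 0 ≠ 0 :=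
  (h 0 0).2 hπ.symm

variable (F) in
/-- monomial matrices fixing the first line -/
noncomputable def N1 : Subgroup (Matrix.SpecialLinearGroup (Fin 3) F) :=
  ((MulAction.stabilizer (Perm (Fin 3)) (0 : Fin 3)).comap (pm : Mon F 3 →* _)).map (Mon F 3).subtype

theorem mem_N1 {x : Matrix.SpecialLinearGroup (Fin 3) F} :
    x ∈ N1 F ↔ ∃ π : Perm (Fin 3), IsPM (x : Matrix (Fin 3) (Fin 3) F) π ∧ π 0 = 0 := by
  constructor
  · rintro ⟨y, hy, rfl⟩
    exact ⟨pm y, pm_spec y, hy⟩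
  · rintro ⟨π, h1, h2⟩
    refine ⟨⟨x, π, h1⟩, ?_, rfl⟩
    show pm (⟨x, π, h1⟩ : Mon F 3) ∈ MulAction.stabilizer (Perm (Fin 3)) (0 : Fin 3)
    rw [pm_eq h1]
    exact h2

theorem odd_index_N1 [Fintype F] (h : Fintype.card F % 4 = 1) : Odd (N1 F).index := by
  have h1 : (N1 F).index = 3 * (Mon F 3).index := by
    rw [N1, Subgroup.index_map_subtype, Subgroup.index_comap_of_surjective _ (pm_surjective (by norm_num)),
      MulAction.index_stabilizer_of_transitive, Nat.card_fin]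
  rw [h1]
  refine Odd.mul (by decide) ?_
  have h2 := H716.K547.odd_index h (n := 3) (by norm_num)
  rw [← Nat.not_even_iff_odd, even_iff_two_dvd]
  exact h2

/-- the entry as a unit -/
noncomputable def u0 (x : N1 F) : Fˣ :=
  Units.mk0 (((x : Matrix.SpecialLinearGroup (Fin 3) F) : Matrix (Fin 3) (Fin 3) F) 0 0)
    (entry_ne (mem_N1.1 x.2).choose_spec.1 (mem_N1.1 x.2).choose_spec.2)

theorem u0_mul (x y : N1 F) : u0 (x * y) = u0 x * u0 y :=
  Units.ext (entry_mul (x := ((x : Matrix.SpecialLinearGroup (Fin 3) F) : Matrix (Fin 3) (Fin 3) F))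
    (mem_N1.1 y.2).choose_spec.1 (mem_N1.1 y.2).choose_spec.2)

/-- the two homomorphisms together -/
noncomputable def f1 (F : Type*) [Field F] (e : ℕ) : N1 F →* Perm (Fin 3) × Fˣ :=
  MonoidHom.mk' (fun x => ((mem_N1.1 x.2).choose, u0 x ^ e)) (by
    intro x y
    refine Prod.ext ?_ ?_
    · exact (mem_N1.1 (x * y).2).choose_spec.1.unique
        ((mem_N1.1 x.2).choose_spec.1.mul (mem_N1.1 y.2).choose_spec.1)
    · simp only [Prod.snd_mul]
      rw [u0_mul, mul_pow])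

theorem f1_fst {e : ℕ} (x : N1 F) : IsPM ((x : Matrix.SpecialLinearGroup (Fin 3) F) : Matrix (Fin 3) (Fin 3) F)
    (f1 F e x).1 ∧ (f1 F e x).1 0 = 0 := (mem_N1.1 x.2).choose_spec

theorem f1_snd {e : ℕ} (x : N1 F) :
    (((f1 F e x).2 : Fˣ) : F) = ((x : Matrix.SpecialLinearGroup (Fin 3) F) : Matrix (Fin 3) (Fin 3) F) 0 0 ^ e := by
  show ((u0 x ^ e : Fˣ) : F) = _
  rw [Units.val_pow_eq_pow_val]
  rfl

theorem f1_eq {e : ℕ} {x y : N1 F} {π : Perm (Fin 3)}
    (hx : IsPM ((x : Matrix.SpecialLinearGroup (Fin 3) F) : Matrix (Fin 3) (Fin 3) F) π)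
    (hy : IsPM ((y : Matrix.SpecialLinearGroup (Fin 3) F) : Matrix (Fin 3) (Fin 3) F) π)
    (hxy : ((x : Matrix.SpecialLinearGroup (Fin 3) F) : Matrix (Fin 3) (Fin 3) F) 0 0 ^ e =
      ((y : Matrix.SpecialLinearGroup (Fin 3) F) : Matrix (Fin 3) (Fin 3) F) 0 0 ^ e) : f1 F e x = f1 F e y := by
  refine Prod.ext ?_ (Units.ext ?_)
  · rw [(f1_fst x).1.unique hx, (f1_fst y).1.unique hy]
  · rw [f1_snd, f1_snd, hxy]

section fin

variable [Fintype F]

/-- the automorphisms we need -/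
def Ok (e : ℕ) (α : MulAut (Matrix.SpecialLinearGroup (Fin 3) F)) : Prop :=
  ∀ (x : Matrix.SpecialLinearGroup (Fin 3) F) (π : Perm (Fin 3)), IsPM (x : Matrix (Fin 3) (Fin 3) F) π →
    π 0 = 0 → IsPM ((α x : Matrix.SpecialLinearGroup (Fin 3) F) : Matrix (Fin 3) (Fin 3) F) π ∧
      ((α x : Matrix.SpecialLinearGroup (Fin 3) F) : Matrix (Fin 3) (Fin 3) F) 0 0 ^ e =
        (x : Matrix (Fin 3) (Fin 3) F) 0 0 ^ e

omit [Fintype F] in
theorem Ok.mul {e : ℕ} {α β : MulAut (Matrix.SpecialLinearGroup (Fin 3) F)} (hα : Ok e α) (hβ : Ok e β) :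
    Ok e (α * β) := by
  intro x π h h0
  obtain ⟨h1, h2⟩ := hβ x π h h0
  obtain ⟨h3, h4⟩ := hα (β x) π h1 h0
  exact ⟨h3, h4.trans h2⟩

omit [Fintype F] in
theorem ok_cj (e : ℕ) {D : GL (Fin 3) F} {d : Fin 3 → F} (hD : (D : Matrix (Fin 3) (Fin 3) F) = diagonal d)
    (hd : ∀ i, d i ≠ 0) : Ok e (cj D) := by
  intro x π h h0
  refine ⟨ispm_cj hD hd h, ?_⟩
  congr 1
  have hDi : ((D⁻¹ : GL (Fin 3) F) : Matrix (Fin 3) (Fin 3) F) = diagonal fun i => (d i)⁻¹ := by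
    have h1 : ((D⁻¹ : GL (Fin 3) F) : Matrix (Fin 3) (Fin 3) F) * diagonal d = 1 := by
      rw [← hD, ← Units.val_mul, inv_mul_cancel, Units.val_one]
    have h2 : diagonal d * (diagonal fun i => (d i)⁻¹) = (1 : Matrix (Fin 3) (Fin 3) F) := by
      rw [diagonal_mul_diagonal, ← diagonal_one]
      congr 1
      funext i
      exact mul_inv_cancel₀ (hd i)
    calc ((D⁻¹ : GL (Fin 3) F) : Matrix (Fin 3) (Fin 3) F) =
        ((D⁻¹ : GL (Fin 3) F) : Matrix (Fin 3) (Fin 3) F) * (diagonal d * (diagonal fun i => (d i)⁻¹)) := by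
          rw [h2, mul_one]
      _ = diagonal fun i => (d i)⁻¹ := by rw [← mul_assoc, h1, one_mul]
  rw [coe_cj, hD, hDi, mul_diagonal, diagonal_mul]
  field_simp [hd 0]

theorem pow_dich (h2 : (2 : F) ≠ 0) {a : F} (ha : a ≠ 0) :
    a ^ (Fintype.card F / 2) = 1 ∨ a ^ (Fintype.card F / 2) = -1 := by
  refine FiniteField.pow_dichotomy ?_ ha
  intro h
  apply h2
  have := ringChar.spec F 2
  rw [h] at this
  exact_mod_cast this.2 (dvd_refl 2)

theorem ok_fld (h2 : (2 : F) ≠ 0) (σ : F ≃+* F) : Ok (Fintype.card F / 2) (fld σ) := by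
  intro x π h h0
  refine ⟨ispm_fld σ h, ?_⟩
  rw [coe_fld_apply, ← map_pow]
  rcases pow_dich h2 (entry_ne h h0) with h3 | h3
  · rw [h3, map_one]
  · rw [h3, map_neg, map_one]

theorem ok_itr (h2 : (2 : F) ≠ 0) : Ok (Fintype.card F / 2) (itr : MulAut (Matrix.SpecialLinearGroup (Fin 3) F)) := by
  intro x π h h0
  refine ⟨ispm_itr h, ?_⟩
  have h1 : ((x⁻¹ : Matrix.SpecialLinearGroup (Fin 3) F) : Matrix (Fin 3) (Fin 3) F) 0 0 *
      (x : Matrix (Fin 3) (Fin 3) F) 0 0 = 1 := by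
    rw [← entry_mul h h0, ← Matrix.SpecialLinearGroup.coe_mul, inv_mul_cancel, Matrix.SpecialLinearGroup.coe_one,
      Matrix.one_apply_eq]
  rw [coe_itr, transpose_apply]
  have h3 : (((x⁻¹ : Matrix.SpecialLinearGroup (Fin 3) F) : Matrix (Fin 3) (Fin 3) F) 0 0) ^ (Fintype.card F / 2) *
      (x : Matrix (Fin 3) (Fin 3) F) 0 0 ^ (Fintype.card F / 2) = 1 := by
    rw [← mul_pow, h1, one_pow]
  rcases pow_dich h2 (entry_ne h h0) with h4 | h4
  · rw [h4, mul_one] at h3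
    rw [h3, h4]
  · rw [h4] at h3 ⊢
    linear_combination -h3

/-- the kernel -/
theorem f1_ker (h2 : (2 : F) ≠ 0) (x : N1 F) (hx : pr (x : Matrix.SpecialLinearGroup (Fin 3) F) = 1) :
    f1 F (Fintype.card F / 2) x = 1 := by
  obtain ⟨r, hr, hxr⟩ := Matrix.SpecialLinearGroup.mem_center_iff.1 ((pr_eq_one_iff _).1 hx)
  rw [Fintype.card_fin] at hr
  have hr0 : r ≠ 0 := by
    rintro rfl
    rw [zero_pow (by norm_num)] at hr
    exact zero_ne_one hr
  have e1 : ((x : Matrix.SpecialLinearGroup (Fin 3) F) : Matrix (Fin 3) (Fin 3) F) 0 0 = r := by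
    rw [← hxr, scalar_apply, diagonal_apply_eq]
  rw [← map_one (f1 F (Fintype.card F / 2))]
  refine f1_eq (π := 1) ?_ IsPM.one ?_
  · rw [← hxr]
    intro i j
    rw [Perm.one_apply, scalar_apply]
    by_cases hij : i = j
    · subst hij
      simp [hr0]
    · simp [hij]
  · rw [e1]
    show r ^ _ = ((1 : Matrix (Fin 3) (Fin 3) F) 0 0) ^ _
    rw [Matrix.one_apply_eq, one_pow]
    rcases pow_dich h2 hr0 with h3 | h3
    · exact h3
    · exfalso
      have h4 : (r ^ (Fintype.card F / 2)) ^ 3 = 1 := by rw [← pow_mul, mul_comm, pow_mul, hr, one_pow]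
      rw [h3] at h4
      apply h2
      linear_combination -h4

theorem perm_sq (π : Perm (Fin 3)) (h : π 0 = 0) : π * π = 1 := by
  revert π
  decide

theorem perm_comm (π ρ : Perm (Fin 3)) (h : π 0 = 0) (h' : ρ 0 = 0) : π * ρ = ρ * π := by
  revert π ρ
  decide

theorem f1_sq (h2 : (2 : F) ≠ 0) (x : N1 F) : f1 F (Fintype.card F / 2) x * f1 F (Fintype.card F / 2) x = 1 := by
  have h1 := f1_fst (e := Fintype.card F / 2) x
  refine Prod.ext (perm_sq _ h1.2) (Units.ext ?_)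
  have h3 := f1_snd (e := Fintype.card F / 2) x
  show ((f1 F (Fintype.card F / 2) x).2 : F) * ((f1 F (Fintype.card F / 2) x).2 : F) = 1
  rw [h3]
  rcases pow_dich h2 (entry_ne h1.1 h1.2) with h4 | h4
  · rw [h4, one_mul]
  · rw [h4]; ring

theorem f1_comm (x y : N1 F) : f1 F (Fintype.card F / 2) x * f1 F (Fintype.card F / 2) y =
    f1 F (Fintype.card F / 2) y * f1 F (Fintype.card F / 2) x :=
  Prod.ext (perm_comm _ _ (f1_fst x).2 (f1_fst y).2) (mul_comm _ _)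

omit [Fintype F] in
/-- an element with a given permutation -/
theorem exists_swap : ∃ a : N1 F, IsPM ((a : Matrix.SpecialLinearGroup (Fin 3) F) : Matrix (Fin 3) (Fin 3) F)
    (swap 1 2) := by
  obtain ⟨x, hx⟩ := pm_surjective (F := F) (n := 3) (by norm_num) (swap 1 2)
  have h1 := pm_spec x
  rw [hx] at h1
  exact ⟨⟨x, mem_N1.2 ⟨_, h1, by decide⟩⟩, h1⟩

omit [Fintype F] in
/-- a diagonal element with a given entry -/
theorem exists_dg {δ : F} (hδ : δ ≠ 0) : ∃ b : N1 F,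
    IsPM ((b : Matrix.SpecialLinearGroup (Fin 3) F) : Matrix (Fin 3) (Fin 3) F) 1 ∧
      ((b : Matrix.SpecialLinearGroup (Fin 3) F) : Matrix (Fin 3) (Fin 3) F) 0 0 = δ := by
  have hdet : (diagonal ![δ, δ⁻¹, 1]).det = 1 := by
    rw [det_diagonal, Fin.prod_univ_three]
    simp [hδ]
  have hpm : IsPM (diagonal ![δ, δ⁻¹, 1]) 1 := by
    intro i j
    rw [Perm.one_apply]
    by_cases hij : i = j
    · subst hij
      rw [diagonal_apply_eq]
      refine ⟨fun _ => rfl, fun _ => ?_⟩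
      fin_cases i
      · exact hδ
      · exact inv_ne_zero hδ
      · exact one_ne_zero
    · rw [diagonal_apply_ne _ hij]
      exact ⟨fun h => absurd rfl h, fun h => absurd h hij⟩
  exact ⟨⟨⟨_, hdet⟩, mem_N1.2 ⟨1, hpm, rfl⟩⟩, hpm, by show (diagonal ![δ, δ⁻¹, 1]) 0 0 = δ; simp⟩

theorem exists_nonsq (h2 : (2 : F) ≠ 0) : ∃ δ : F, δ ≠ 0 ∧ δ ^ (Fintype.card F / 2) ≠ 1 := by
  have h0 : ringChar F ≠ 2 := by
    intro h
    apply h2
    have := ringChar.spec F 2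
    rw [h] at this
    exact_mod_cast this.2 (dvd_refl 2)
  obtain ⟨δ, hδ⟩ := FiniteField.exists_nonsquare h0
  have hδ0 : δ ≠ 0 := by
    rintro rfl
    exact hδ (IsSquare.zero)
  exact ⟨δ, hδ0, fun h => hδ ((FiniteField.isSquare_iff h0 hδ0).2 h)⟩

/-- **outer automorphisms of `PSL_3(q)`, `q ≡ 1 mod 4`** -/
theorem ext_one (h1 : Fintype.card F % 4 = 1) (τ : MulAut (ProjectiveSpecialLinearGroup (Fin 3) F))
    (ht : TwoPow τ) (hni : ¬ IsInn τ) : D3 (AutExt τ) := by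
  have h2 : (2 : F) ≠ 0 := by
    intro h0
    have h1' : ringChar F ∣ 2 := (ringChar.spec F 2).1 (by exact_mod_cast h0)
    have h3 : ringChar F = 2 := by
      rcases (Nat.dvd_prime Nat.prime_two).1 h1' with h4 | h4
      · exact absurd h4 (CharP.ringChar_ne_one)
      · exact h4
    have h4 := FiniteField.even_card_of_char_two h3
    omega
  obtain ⟨p, hp⟩ := CharP.exists F
  have : Fact p.Prime := ⟨CharP.char_is_prime F p⟩
  have hsimple : IsSimpleGroup (ProjectiveSpecialLinearGroup (Fin 3) F) := Cfsg.Agent.S0249.result 3 (by norm_num)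
  have key : ∃ (B : Matrix.SpecialLinearGroup (Fin 3) F) (α : MulAut (Matrix.SpecialLinearGroup (Fin 3) F)),
      Ok (Fintype.card F / 2) α ∧ τ = MulAut.conj (pr B) * lift α := by
    rcases surj_three p (by norm_num) τ with ⟨A, σ, rfl⟩ | ⟨A, σ, rfl⟩
    · obtain ⟨B, D, d, hD, hd, rfl⟩ := exists_decomp (by omega) A
      refine ⟨B, cj D * fld σ, (ok_cj _ hD hd).mul (ok_fld h2 σ), ?_⟩
      rw [← lift_cj_toGL, ← map_mul, ← mul_assoc, ← map_mul]
    · obtain ⟨B, D, d, hD, hd, rfl⟩ := exists_decomp (by omega) A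
      refine ⟨B, cj D * fld σ * itr, ((ok_cj _ hD hd).mul (ok_fld h2 σ)).mul (ok_itr h2), ?_⟩
      rw [← lift_cj_toGL, ← map_mul, ← mul_assoc, ← mul_assoc, ← map_mul]
  obtain ⟨B, α, hα, rfl⟩ := key
  obtain ⟨a, ha⟩ := exists_swap (F := F)
  obtain ⟨δ, hδ0, hδ⟩ := exists_nonsq h2
  obtain ⟨b, hb, hb'⟩ := exists_dg hδ0
  have hN : ∀ x ∈ N1 F, α x ∈ N1 F := by
    intro x hx
    obtain ⟨π, h3, h4⟩ := mem_N1.1 hx
    exact mem_N1.2 ⟨π, (hα x π h3 h4).1, h4⟩
  have e1 : (f1 F (Fintype.card F / 2) a).1 = swap 1 2 := (f1_fst a).1.unique ha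
  have e2 : (f1 F (Fintype.card F / 2) b).1 = 1 := (f1_fst b).1.unique hb
  refine d3_of_cover_sq pr pr_surjective (N1 F) (odd_index_N1 h1) (f1 F (Fintype.card F / 2)) (f1_ker h2) _ ht hni
    (pr B)⁻¹ α ?_ hN ?_ (f1_sq h2) f1_comm a b ?_ ?_ ?_ inferInstance
  · intro x
    rw [MulAut.mul_apply, MulAut.mul_apply, lift_pr, MulAut.conj_apply, MulAut.conj_apply]
    group
  · intro x
    obtain ⟨h3, h4⟩ := f1_fst (e := Fintype.card F / 2) x
    obtain ⟨h5, h6⟩ := hα x _ h3 h4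
    exact f1_eq h5 h3 h6
  · intro h
    rw [h] at e1
    exact absurd (show (1 : Perm (Fin 3)) = swap 1 2 from e1) (by decide)
  · intro h
    have h3 := f1_snd (e := Fintype.card F / 2) b
    rw [h, hb'] at h3
    exact hδ h3.symm
  · intro h
    rw [h, e2] at e1
    exact absurd e1 (by decide)

end fin

end Cfsg.Agent.H829.K547.PslA
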